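import Cfsg.Agent.Omega.NO1.Sym.Syl

/-!
# Sums of even-subset modules: 2-groups normalised by `H0` (project OMEGA, N1, `SymAll`)

`Q ≤ T` normalised by `H0 M`:
* `fst_eq` : `Q` fixes all blocks;
* `invol`, `no_fix` : `q ∈ Q` is 1 or a fixed point free involution on the points `(i, x)`, `x ≠ 0`, of every block;
* `eq_two` : `m = 2` if `Q` does not centralise `V`.
-/

set_option autoImplicit false

namespace Cfsg.Agent.Omega.NO1.Sym

open Subgroup Cfsg Cfsg.Agent.ZN Cfsg.Agent.Omega.FFThm Cfsg.Agent.Omega.Half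

universe u

/-- 2-elements have no order 3. -/
theorem eq_one_of_three {A : Type*} [Group A] {x : A} {N : ℕ} (h2 : x ^ 2 ^ N = 1) (h3 : x ^ 3 = 1) : x = 1 := by
  have h4 : orderOf x ∣ 2 ^ N := orderOf_dvd_of_pow_eq_one h2
  have h5 : orderOf x ∣ 3 := orderOf_dvd_of_pow_eq_one h3
  have h6 : Nat.Coprime (2 ^ N) 3 := Nat.Coprime.pow_left N (by norm_num)
  exact orderOf_eq_one_iff.1 (Nat.dvd_one.1 (h6 ▸ Nat.dvd_gcd h4 h5))

section perm

variable {α : Type*} [DecidableEq α]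

theorem conj_swap (f : Equiv.Perm α) (a b : α) : f * Equiv.swap a b * f⁻¹ = Equiv.swap (f a) (f b) := by
  ext x
  rw [Equiv.Perm.mul_apply, Equiv.Perm.mul_apply]
  by_cases h1 : x = f a
  · rw [h1, inv_apply, Equiv.swap_apply_left, Equiv.swap_apply_left]
  · by_cases h2 : x = f b
    · rw [h2, inv_apply, Equiv.swap_apply_right, Equiv.swap_apply_right]
    · rw [Equiv.swap_apply_of_ne_of_ne h1 h2, Equiv.swap_apply_of_ne_of_ne, apply_inv]
      · intro h
        exact h1 (by rw [← h, apply_inv])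
      · intro h
        exact h2 (by rw [← h, apply_inv])

/-- `(a b)(a c)` has order 3. -/
theorem three [Fintype α] {a b c : α} (hab : a ≠ b) (hac : a ≠ c) (hbc : b ≠ c) {N : ℕ}
    (h : (Equiv.swap a b * Equiv.swap a c) ^ 2 ^ N = 1) : False := by
  have h3 := (Equiv.Perm.isThreeCycle_swap_mul_swap_same hab hac hbc).orderOf
  have h4 := eq_one_of_three h (by rw [← h3]; exact pow_orderOf_eq_one _)
  rw [h4, orderOf_one] at h3
  norm_num at h3

/-- Two disjoint 3-cycles. -/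
theorem three_three [Fintype α] {a b c a' b' c' : α} (hab : a ≠ b) (hac : a ≠ c) (hbc : b ≠ c)
    (hab' : a' ≠ b') (hac' : a' ≠ c') (hbc' : b' ≠ c')
    (hd : ∀ x, (x = a ∨ x = b ∨ x = c) → ¬ (x = a' ∨ x = b' ∨ x = c')) {N : ℕ}
    (h : ((Equiv.swap a' b' * Equiv.swap a' c') * (Equiv.swap a b * Equiv.swap a c)⁻¹) ^ 2 ^ N = 1) : False := by
  set f := Equiv.swap a b * Equiv.swap a c with hf
  set f' := Equiv.swap a' b' * Equiv.swap a' c' with hf'
  have f3 : f ^ 3 = 1 := by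
    have := (Equiv.Perm.isThreeCycle_swap_mul_swap_same hab hac hbc).orderOf
    rw [← this]
    exact pow_orderOf_eq_one _
  have f3' : f' ^ 3 = 1 := by
    have := (Equiv.Perm.isThreeCycle_swap_mul_swap_same hab' hac' hbc').orderOf
    rw [← this]
    exact pow_orderOf_eq_one _
  have fix : ∀ x, ¬ (x = a ∨ x = b ∨ x = c) → f x = x := by
    intro x hx
    push Not at hx
    rw [hf, Equiv.Perm.mul_apply, Equiv.swap_apply_of_ne_of_ne hx.1 hx.2.2, Equiv.swap_apply_of_ne_of_ne hx.1 hx.2.1]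
  have fix' : ∀ x, ¬ (x = a' ∨ x = b' ∨ x = c') → f' x = x := by
    intro x hx
    push Not at hx
    rw [hf', Equiv.Perm.mul_apply, Equiv.swap_apply_of_ne_of_ne hx.1 hx.2.2, Equiv.swap_apply_of_ne_of_ne hx.1 hx.2.1]
  have hdis : Equiv.Perm.Disjoint f' f := by
    intro x
    by_cases hx : x = a ∨ x = b ∨ x = c
    · exact Or.inl (fix' x (hd x hx))
    · exact Or.inr (fix x hx)
  have hcomm : Commute f' f⁻¹ := hdis.commute.inv_right
  have h3 : (f' * f⁻¹) ^ 3 = 1 := by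
    rw [hcomm.mul_pow, f3', inv_pow, f3, inv_one, one_mul]
  have h4 : f' * f⁻¹ = 1 := eq_one_of_three h h3
  have h5 : f' = f := mul_inv_eq_one.1 h4
  have h6 : f a = a := by
    rw [← h5]
    exact fix' a (hd a (Or.inl rfl))
  have h7 : f a = c := by
    rw [hf, Equiv.Perm.mul_apply, Equiv.swap_apply_left, Equiv.swap_apply_of_ne_of_ne (Ne.symm hac) (Ne.symm hbc)]
  exact hac (h6.symm.trans h7)

end perm

variable {G : Type u} [Group G] {T H V : Subgroup G} {k m : ℕ}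

/-- The hypotheses on `Q`. -/
structure QSit (M : SymK T H V ⊥ k m) (hm : 2 ≤ m) (hA : Amb T H V) (Q : Subgroup G) : Prop where
  le : Q ≤ T
  two : IsPGroup 2 T
  norm : ∀ g ∈ H0 M (by omega) hA, ∀ q ∈ Q, g * q * g⁻¹ ∈ Q

variable {M : SymK T H V ⊥ k m} {hm : 2 ≤ m} {hA : Amb T H V} {Q : Subgroup G}

theorem five_le {m : ℕ} (hm : 2 ≤ m) : 5 ≤ 2 ^ m + 1 := by
  have : 2 ^ 2 ≤ 2 ^ m := Nat.pow_le_pow_right (by norm_num) hm
  omega

namespace QSit

variable (h : QSit M hm hA Q)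
include h

theorem Q_le_H : Q ≤ H := h.le.trans hA.TH

theorem Q_le_H0 : Q ≤ H0 M (by omega) hA := h.le.trans (T_le_H0 M (by omega) hA)

/-- The commutator with an element of `H0` has 2-power order. -/
theorem comm_pow {q g : G} (hq : q ∈ Q) (hg : g ∈ H0 M (by omega) hA) :
    ∃ N : ℕ, (rp M q * rp M g * (rp M q)⁻¹ * (rp M g)⁻¹) ^ 2 ^ N = 1 := by
  have hm1 : 1 ≤ m := by omega
  have h1 : q * g * q⁻¹ * g⁻¹ ∈ Q := by
    have e : q * g * q⁻¹ * g⁻¹ = q * (g * q⁻¹ * g⁻¹) := by group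
    rw [e]
    exact mul_mem hq (h.norm g hg _ (inv_mem hq))
  obtain ⟨N, hN⟩ := (h.two.to_le h.le) ⟨_, h1⟩
  refine ⟨N, ?_⟩
  have h2 : (q * g * q⁻¹ * g⁻¹) ^ 2 ^ N = 1 := congrArg Subtype.val hN
  have hqH := h.Q_le_H hq
  have hgH := hg.1
  rw [← rp_inv M hm1 hA hqH, ← rp_inv M hm1 hA hgH, ← rp_mul M hm1 hA hqH hgH,
    ← rp_mul M hm1 hA (mul_mem hqH hgH) (inv_mem hqH),
    ← rp_mul M hm1 hA (mul_mem (mul_mem hqH hgH) (inv_mem hqH)) (inv_mem hgH),
    ← rp_pow M hm1 hA (h.Q_le_H h1), h2, rp_one M hm1 hA]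

theorem snd_ne {q : G} (hq : q ∈ Q) {p : Pt k m} (hp : p.2 ≠ 0) : (rp M q p).2 ≠ 0 :=
  fun h0 => hp (((h.Q_le_H0 hq).2 p).1 h0)

/-- `Q` fixes the blocks. -/
theorem fst_eq {q : G} (hq : q ∈ Q) (p : Pt k m) : (rp M q p).1 = p.1 := by
  have hm1 : 1 ≤ m := by omega
  have h5 := five_le hm
  by_contra hne
  have hn1 : ((1 : Fin (2 ^ m + 1)) : ℕ) = 1 := by
    rw [Fin.val_one', Nat.mod_eq_of_lt (by omega)]
  let x1 : Fin (2 ^ m + 1) := ⟨1, by omega⟩
  let x2 : Fin (2 ^ m + 1) := ⟨2, by omega⟩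
  let x3 : Fin (2 ^ m + 1) := ⟨3, by omega⟩
  have z1 : x1 ≠ 0 := fun h => by have := congrArg Fin.val h; simp [x1] at this
  have z2 : x2 ≠ 0 := fun h => by have := congrArg Fin.val h; simp [x2] at this
  have z3 : x3 ≠ 0 := fun h => by have := congrArg Fin.val h; simp [x3] at this
  have h12 : x1 ≠ x2 := fun h => by have := congrArg Fin.val h; simp [x1, x2] at this
  have h13 : x1 ≠ x3 := fun h => by have := congrArg Fin.val h; simp [x1, x3] at this
  have h23 : x2 ≠ x3 := fun h => by have := congrArg Fin.val h; simp [x2, x3] at this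
  let a : Pt k m := (p.1, x1)
  let b : Pt k m := (p.1, x2)
  let c : Pt k m := (p.1, x3)
  obtain ⟨g1, hg1, e1⟩ := exists_swap0 M hm1 hA (p := a) (q := b) rfl z1 z2
  obtain ⟨g2, hg2, e2⟩ := exists_swap0 M hm1 hA (p := a) (q := c) rfl z1 z3
  obtain ⟨N, hN⟩ := h.comm_pow hq (mul_mem hg1 hg2)
  rw [rp_mul M hm1 hA hg1.1 hg2.1, e1, e2] at hN
  have e3 : rp M q * (Equiv.swap a b * Equiv.swap a c) * (rp M q)⁻¹ =
      Equiv.swap (rp M q a) (rp M q b) * Equiv.swap (rp M q a) (rp M q c) := by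
    rw [← conj_swap, ← conj_swap]
    group
  rw [e3] at hN
  have hab : a ≠ b := fun h => h12 (congrArg Prod.snd h)
  have hac : a ≠ c := fun h => h13 (congrArg Prod.snd h)
  have hbc : b ≠ c := fun h => h23 (congrArg Prod.snd h)
  have inj := (rp M q).injective
  refine three_three hab hac hbc (fun h => hab (inj h)) (fun h => hac (inj h)) (fun h => hbc (inj h)) ?_ hN
  have hqH := h.Q_le_H hq
  have key : ∀ y, (rp M q (p.1, y)).1 ≠ p.1 := by
    intro y hy
    apply hne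
    rw [← hy]
    exact (rp_fst_eq M hqH).2 rfl
  rintro x hx hx'
  have hx1 : x.1 = p.1 := by
    rcases hx with rfl | rfl | rfl <;> rfl
  rcases hx' with rfl | rfl | rfl <;> exact key _ hx1

/-- `q ∈ Q` is an involution on the points. -/
theorem invol {q : G} (hq : q ∈ Q) {p : Pt k m} (hp : p.2 ≠ 0) : rp M q (rp M q p) = p := by
  have hm1 : 1 ≤ m := by omega
  by_contra hne
  have h1 : rp M q p ≠ p := fun h1 => hne (by rw [h1, h1])
  obtain ⟨g, hg, e⟩ := exists_swap0 M hm1 hA (p := p) (q := rp M q p) (h.fst_eq hq p).symm hp (h.snd_ne hq hp)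
  obtain ⟨N, hN⟩ := h.comm_pow hq hg
  rw [e, conj_swap, Equiv.swap_inv, Equiv.swap_comm p] at hN
  exact three (fun h2 => h1 ((rp M q).injective h2.symm)) h1 hne hN

/-- `q ∈ Q`, `q ≠ 1` on the block `i`, has only the fixed point `(i, 0)` in this block. -/
theorem no_fix {q : G} (hq : q ∈ Q) {p r : Pt k m} (hp : p.2 ≠ 0) (h1 : rp M q p ≠ p) (hr : r.2 ≠ 0)
    (hrp : r.1 = p.1) : rp M q r ≠ r := by
  have hm1 : 1 ≤ m := by omega
  intro h2
  obtain ⟨g, hg, e⟩ := exists_swap0 M hm1 hA (p := r) (q := p) hrp hr hp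
  obtain ⟨N, hN⟩ := h.comm_pow hq hg
  rw [e, conj_swap, Equiv.swap_inv, h2] at hN
  have h3 : r ≠ p := fun h3 => h1 (h3 ▸ h2)
  refine three (fun h4 => h3 ?_) h3 h1 hN
  rw [← h2] at h4
  exact (rp M q).injective h4

/-- The points `(i, 0)` are fixed. -/
theorem fix_zero {q : G} (hq : q ∈ Q) {p : Pt k m} (hp : p.2 = 0) : rp M q p = p :=
  Prod.ext (h.fst_eq hq p) ((((h.Q_le_H0 hq).2 p).2 hp).trans hp.symm)

/-- If `Q` does not centralise `V`, then `m = 2`. -/
theorem eq_two {q : G} (hq : q ∈ Q) {p : Pt k m} (h1 : rp M q p ≠ p) : m = 2 := by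
  classical
  have hm1 : 1 ≤ m := by omega
  have hp : p.2 ≠ 0 := fun h0 => h1 (h.fix_zero hq h0)
  by_contra hm2
  have h9 : 2 ^ 3 ≤ 2 ^ m := Nat.pow_le_pow_right (by norm_num) (by omega)
  have pick : ∀ s : Finset (Fin (2 ^ m + 1)), s.card ≤ 5 → ∃ x, x ∉ s := by
    intro s hs
    have hc : s.card < (Finset.univ : Finset (Fin (2 ^ m + 1))).card := by
      rw [Finset.card_univ, Fintype.card_fin]
      omega
    obtain ⟨x, -, hx⟩ := Finset.exists_mem_notMem_of_card_lt_card hc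
    exact ⟨x, hx⟩
  set b := rp M q p with hb
  have hb1 : b.1 = p.1 := h.fst_eq hq p
  obtain ⟨x, hx⟩ := pick {0, p.2, b.2} (Finset.card_le_three.trans (by norm_num))
  simp only [Finset.mem_insert, Finset.mem_singleton, not_or] at hx
  obtain ⟨hx0, hxp, hxb⟩ := hx
  set X : Pt k m := (p.1, x) with hX
  set Y := rp M q X with hY
  have hY1 : Y.1 = p.1 := h.fst_eq hq X
  obtain ⟨y, hy⟩ := pick {0, p.2, b.2, x, Y.2} (by
    refine (Finset.card_insert_le _ _).trans ?_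
    have := Finset.card_le_four (a := p.2) (b := b.2) (c := x) (d := Y.2)
    omega)
  simp only [Finset.mem_insert, Finset.mem_singleton, not_or] at hy
  obtain ⟨hy0, hyp, hyb, hyx, hyY⟩ := hy
  set U : Pt k m := (p.1, y) with hU
  obtain ⟨g1, hg1, e1⟩ := exists_swap0 M hm1 hA (p := p) (q := X) rfl hp hx0
  obtain ⟨g2, hg2, e2⟩ := exists_swap0 M hm1 hA (p := p) (q := U) rfl hp hy0
  obtain ⟨N, hN⟩ := h.comm_pow hq (mul_mem hg1 hg2)
  rw [rp_mul M hm1 hA hg1.1 hg2.1, e1, e2] at hN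
  have e3 : rp M q * (Equiv.swap p X * Equiv.swap p U) * (rp M q)⁻¹ =
      Equiv.swap (rp M q p) (rp M q X) * Equiv.swap (rp M q p) (rp M q U) := by
    rw [← conj_swap, ← conj_swap]
    group
  rw [e3] at hN
  have hpX : p ≠ X := fun h => hxp (congrArg Prod.snd h).symm
  have hpU : p ≠ U := fun h => hyp (congrArg Prod.snd h).symm
  have hXU : X ≠ U := fun h => hyx (congrArg Prod.snd h).symm
  have inj := (rp M q).injective
  have hbX : b ≠ X := fun h => hxb (congrArg Prod.snd h).symm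
  have hbU : b ≠ U := fun h => hyb (congrArg Prod.snd h).symm
  have hYU : Y ≠ U := fun h => hyY (congrArg Prod.snd h).symm
  have ip : rp M q b = p := h.invol hq hp
  have iX : rp M q Y = X := h.invol hq hx0
  have iU : rp M q (rp M q U) = U := h.invol hq hy0
  have hYX : Y ≠ X := h.no_fix hq hp h1 hx0 rfl
  have hVU : rp M q U ≠ U := h.no_fix hq hp h1 hy0 rfl
  refine three_three hpX hpU hXU (fun h => hpX (inj h)) (fun h => hpU (inj h)) (fun h => hXU (inj h)) ?_ hN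
  rintro z (rfl | rfl | rfl) hz
  · rcases hz with hz | hz | hz
    · exact h1 hz.symm
    · exact hbX ((congrArg (rp M q) hz).trans iX)
    · exact hbU ((congrArg (rp M q) hz).trans iU)
  · rcases hz with hz | hz | hz
    · exact hbX hz.symm
    · exact hYX hz.symm
    · exact hYU ((congrArg (rp M q) hz).trans iU)
  · rcases hz with hz | hz | hz
    · exact hbU hz.symm
    · exact hYU hz.symm
    · exact hVU hz.symm

end QSit

end Cfsg.Agent.Omega.NO1.Sym
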