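import Cfsg.Agent.Omega.NO1.Sym.Two
import Cfsg.Agent.Omega.NOne.NearFF

/-!
# Sums of even-subset modules: the frame (project OMEGA, N1, `SymAll`)

* `mem_of_pairs` : the vectors of `V` are products of pairs `{p, q}`;
* `const_mem_D` : in a frame at `v = {(i,0), a}` every vector which is constant on the points `(j, x)`, `x ≠ 0`, of
  every block and zero at the points `(j, 0)`, lies in `D`.
-/

set_option autoImplicit false

namespace Cfsg.Agent.Omega.NO1.Sym

open Subgroup Cfsg Cfsg.Agent.ZN Cfsg.Agent.Omega.FFThm Cfsg.Agent.Omega.Half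
open Cfsg.Agent.Omega.NOne.NearFF

universe u

variable {G : Type u} [Group G] {T H V : Subgroup G} {k m : ℕ}

section pairs

variable (M : SymK T H V ⊥ k m)

theorem ne_zero_iff (a : ZMod 2) : a ≠ 0 ↔ a = 1 := by
  revert a
  decide

/-- `u` has the coordinates of the pair `{p, q}`. -/
def IsPair (p q : Pt k m) (u : G) : Prop := u ∈ V ∧ ∀ r, co M u r = if r = p ∨ r = q then 1 else 0

variable {M}

theorem IsPair.symm {p q : Pt k m} {u : G} (h : IsPair M p q u) : IsPair M q p u :=
  ⟨h.1, fun r => by rw [h.2]; simp only [or_comm]⟩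

theorem IsPair.conj {p q : Pt k m} {u : G} (h : IsPair M p q u) (hA : Amb T H V) {g : G} (hg : g ∈ H) :
    IsPair M (rp M g p) (rp M g q) (g * u * g⁻¹) := by
  refine ⟨hA.conj_mem hg h.1, fun r => ?_⟩
  obtain ⟨s, rfl⟩ := (rp M g).surjective r
  rw [co_rp M hg h.1, h.2]
  simp only [(rp M g).injective.eq_iff]

theorem IsPair.unique {p q : Pt k m} {u u' : G} (h : IsPair M p q u) (h' : IsPair M p q u') : u = u' :=
  ext_co M h.1 h'.1 fun r => by rw [h.2, h'.2]

variable (M)

/-- Every vector is a product of pairs of points of its support. -/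
theorem mem_of_pairs {E : Subgroup G} {Good : Pt k m → Prop}
    (hE : ∀ p q : Pt k m, p.1 = q.1 → p ≠ q → Good p → Good q → ∀ u, IsPair M p q u → u ∈ E)
    {w : G} (hw : w ∈ V) (hg : ∀ p, co M w p ≠ 0 → Good p) : w ∈ E := by
  classical
  suffices key : ∀ n : ℕ, ∀ w ∈ V, (Finset.univ.filter fun p => co M w p ≠ 0).card = n →
      (∀ p, co M w p ≠ 0 → Good p) → w ∈ E from key _ w hw rfl hg
  intro n
  induction n using Nat.strong_induction_on with
  | _ n ih =>
    intro w hw hn hg
    by_cases h0 : ∀ p, co M w p = 0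
    · rw [eq_one_of_co M hw h0]
      exact one_mem E
    · push Not at h0
      obtain ⟨p, hp⟩ := h0
      have hq : ∃ q : Pt k m, q.1 = p.1 ∧ q ≠ p ∧ co M w q ≠ 0 := by
        by_contra hcon
        push Not at hcon
        have h1 := sum_co M hw p.1
        rw [Finset.sum_eq_single p.2 (fun x _ hx => hcon (p.1, x) rfl fun h => hx (congrArg Prod.snd h))
          fun h => absurd (Finset.mem_univ _) h] at h1
        exact hp h1
      obtain ⟨q, hq1, hq2, hq3⟩ := hq
      obtain ⟨u, hu, hu'⟩ := exists_pair M hq1.symm (Ne.symm hq2)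
      have huE : u ∈ E := hE p q hq1.symm (Ne.symm hq2) (hg p hp) (hg q hq3) u ⟨hu, hu'⟩
      have hco : ∀ r, co M (w * u) r ≠ 0 ↔ (co M w r ≠ 0 ∧ r ≠ p ∧ r ≠ q) := by
        intro r
        rw [co_mul M hw hu, hu']
        by_cases hr : r = p ∨ r = q
        · rw [if_pos hr]
          have h1 : co M w r = 1 := by
            rcases hr with rfl | rfl
            · exact (ne_zero_iff _).1 hp
            · exact (ne_zero_iff _).1 hq3
          rw [h1, CharTwo.add_self_eq_zero]
          refine iff_of_false (fun h => h rfl) ?_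
          rintro ⟨-, h2, h3⟩
          exact hr.elim h2 h3
        · rw [if_neg hr, add_zero]
          rw [not_or] at hr
          exact ⟨fun h => ⟨h, hr.1, hr.2⟩, fun h => h.1⟩
      have h2 : w * u ∈ E := by
        refine ih _ ?_ (w * u) (mul_mem hw hu) rfl fun r hr => hg r ((hco r).1 hr).1
        rw [← hn]
        refine Finset.card_lt_card ?_
        rw [Finset.ssubset_iff_of_subset]
        · refine ⟨p, ?_, ?_⟩
          · rw [Finset.mem_filter]
            exact ⟨Finset.mem_univ _, hp⟩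
          · rw [Finset.mem_filter, hco]
            exact fun h => h.2.2.1 rfl
        · intro r hr
          rw [Finset.mem_filter] at hr ⊢
          exact ⟨hr.1, ((hco r).1 hr.2).1⟩
      have h3 : w = w * u * u⁻¹ := by group
      rw [h3]
      exact mul_mem h2 (inv_mem huE)

end pairs

variable {M : SymK T H V ⊥ k m} {hm : 2 ≤ m} {hA : Amb T H V} {Q : Subgroup G}

namespace QSit

variable (h : QSit M hm hA Q)
include h

theorem invol' {q : G} (hq : q ∈ Q) (p : Pt k m) : rp M q (rp M q p) = p := by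
  by_cases hp : p.2 = 0
  · rw [h.fix_zero hq hp, h.fix_zero hq hp]
  · exact h.invol hq hp

/-- Coordinates of commutators. -/
theorem co_c {u f : G} (hu : u ∈ V) (hf : f ∈ Q) (r : Pt k m) :
    co M (c u f) r = co M u r + co M u (rp M f r) := by
  have hfH := h.Q_le_H hf
  have h1 : f * u * f⁻¹ ∈ V := hA.conj_mem hfH hu
  have e : c u f = u * (f * u * f⁻¹)⁻¹ := by rw [c]; group
  rw [e, co_mul M hu (inv_mem h1), co_inv M h1]
  have h2 := co_rp M hfH hu (rp M f r)
  rw [h.invol' hf] at h2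
  rw [h2]

/-- `[v, f]` for `v = {(i,0), a}` -/
theorem co_c_pair {z a : Pt k m} (hz : z.2 = 0) {v f : G} (hv : IsPair M z a v) (hza : z ≠ a) (hf : f ∈ Q)
    (r : Pt k m) : co M (c v f) r = (if r = a then 1 else 0) + (if r = rp M f a then 1 else 0) := by
  rw [h.co_c hv.1 hf, hv.2, hv.2]
  have e1 : rp M f r = z ↔ r = z := by
    constructor
    · intro h1
      rw [← h.invol' hf r, h1, h.fix_zero hf hz]
    · rintro rfl
      exact h.fix_zero hf hz
  have e2 : rp M f r = a ↔ r = rp M f a := by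
    constructor
    · intro h1
      rw [← h1, h.invol' hf]
    · rintro rfl
      exact h.invol' hf a
  simp only [e1, e2]
  by_cases h1 : r = z
  · have h2 : r ≠ a := fun h2 => hza (h1.symm.trans h2)
    have h3 : r ≠ rp M f a := by
      intro h3
      apply h2
      rw [h1] at h3 ⊢
      rw [← h.invol' hf a, ← h3, h.fix_zero hf hz]
    rw [if_pos (Or.inl h1), if_pos (Or.inl h1), if_neg h2, if_neg h3, add_zero, CharTwo.add_self_eq_zero]
  · simp only [h1, false_or]

/-- **The frame at `v = {(i,0), a}`**: `D` contains all vectors constant on the blocks. -/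
theorem const_mem_D [Finite G] {z a : Pt k m} (hz : z.2 = 0) (hza1 : z.1 = a.1) (ha : a.2 ≠ 0) {v : G}
    (hv : IsPair M z a v) {D F : Subgroup G} (hn : Near V (V ⊓ Q) D F v) (hFQ : F ≤ Q) (hne : D ≠ V ⊓ Q)
    (hpairs : ∀ p q : Pt k m, p.1 = q.1 → p.2 ≠ 0 → q.2 ≠ 0 → p ≠ q → ∀ u, IsPair M p q u → u ∈ V ⊓ Q)
    {w : G} (hw : w ∈ V) (hw0 : ∀ p : Pt k m, p.2 = 0 → co M w p = 0)
    (hwc : ∀ p q : Pt k m, p.1 = q.1 → p.2 ≠ 0 → q.2 ≠ 0 → co M w p = co M w q) : w ∈ D := by
  classical
  have h5 := five_le hm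
  have hza : z ≠ a := fun h => ha (by rw [← h]; exact hz)
  have pick : ∀ (i : Fin k) (x y : Fin (2 ^ m + 1)), ∃ p : Pt k m, p.1 = i ∧ p.2 ≠ 0 ∧ p.2 ≠ x ∧ p.2 ≠ y := by
    intro i x y
    have hc : ({0, x, y} : Finset (Fin (2 ^ m + 1))).card < (Finset.univ : Finset (Fin (2 ^ m + 1))).card := by
      rw [Finset.card_univ, Fintype.card_fin]
      exact lt_of_le_of_lt Finset.card_le_three (by omega)
    obtain ⟨y', -, hy⟩ := Finset.exists_mem_notMem_of_card_lt_card hc
    simp only [Finset.mem_insert, Finset.mem_singleton, not_or] at hy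
    exact ⟨(i, y'), rfl, hy.1, hy.2.1, hy.2.2⟩
  -- elements of `D` are fixed by `F`
  have hDfix : ∀ d ∈ D, ∀ f ∈ F, ∀ p, co M d (rp M f p) = co M d p := by
    intro d hd f hf p
    have h1 := co_rp M (h.Q_le_H (hFQ hf)) (hn.DV hd) p
    have h2 : f * d * f⁻¹ = d := by rw [← hn.Dcent hd hf, mul_inv_cancel_right]
    rwa [h2] at h1
  -- `F` is not trivial on `a`
  have hF1 : ∃ f ∈ F, rp M f a ≠ a := by
    by_contra hcon
    push Not at hcon
    apply hne
    refine le_antisymm hn.DE fun e he => ?_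
    obtain ⟨f, hf, hd⟩ := hn.surj he
    have h1 : c v f = 1 := by
      refine eq_one_of_co M (hn.c_memV hn.vV hf) fun r => ?_
      rw [h.co_c_pair hz hv hza (hFQ hf), hcon f hf, CharTwo.add_self_eq_zero]
    rw [h1, one_mul] at hd
    exact inv_mem_iff.1 hd
  -- there are two different images
  have hF2 : ∀ b : Pt k m, ∃ f ∈ F, rp M f a ≠ a ∧ rp M f a ≠ b := by
    intro b
    by_contra hcon
    push Not at hcon
    obtain ⟨f1, hf1, h1⟩ := hF1
    have h1b : rp M f1 a = b := hcon f1 hf1 h1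
    have hb1 : b.1 = a.1 := by rw [← h1b]; exact h.fst_eq (hFQ hf1) a
    have hb2 : b.2 ≠ 0 := by rw [← h1b]; exact h.snd_ne (hFQ hf1) ha
    obtain ⟨x, hx1, hx0, hxa, hxb⟩ := pick a.1 a.2 b.2
    have hxa' : x ≠ a := fun h => hxa (congrArg Prod.snd h)
    have hxb' : x ≠ b := fun h => hxb (congrArg Prod.snd h)
    obtain ⟨e, he, he'⟩ := exists_pair M hx1.symm (Ne.symm hxa')
    have heE : e ∈ V ⊓ Q := hpairs a x hx1.symm ha hx0 (Ne.symm hxa') e ⟨he, he'⟩
    obtain ⟨f', hf', hd⟩ := hn.surj heE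
    have hco : ∀ r, co M (c v f' * e⁻¹) r = ((if r = a then 1 else 0) + (if r = rp M f' a then 1 else 0)) +
        (if r = a ∨ r = x then 1 else 0) := by
      intro r
      rw [co_mul M (hn.c_memV hn.vV hf') (inv_mem he), co_inv M he, he', h.co_c_pair hz hv hza (hFQ hf')]
    have h2 := hDfix _ hd f1 hf1 a
    rw [h1b, hco, hco] at h2
    have hab : a ≠ b := fun h2 => h1 (h1b.trans h2.symm)
    by_cases h3 : rp M f' a = a
    · rw [h3] at h2
      simp only [if_true, if_neg (Ne.symm hab), true_or, Ne.symm hab, Ne.symm hxb', or_self, if_false, zero_add,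
        CharTwo.add_self_eq_zero] at h2
      exact zero_ne_one h2
    · have h4 : rp M f' a = b := hcon f' hf' h3
      rw [h4] at h2
      simp only [if_true, if_neg (Ne.symm hab), true_or, Ne.symm hab, Ne.symm hxb', hab, or_self, if_false, zero_add,
        add_zero, CharTwo.add_self_eq_zero] at h2
      exact one_ne_zero h2
  -- the end
  have hwE : w ∈ V ⊓ Q := by
    refine mem_of_pairs M (Good := fun p => p.2 ≠ 0) (fun p q h1 h2 h3 h4 u hu => hpairs p q h1 h3 h4 h2 u hu) hw ?_
    intro p hp h0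
    exact hp (hw0 p h0)
  obtain ⟨f, hf, hd⟩ := hn.surj hwE
  by_cases h1 : rp M f a = a
  · have h2 : c v f = 1 := by
      refine eq_one_of_co M (hn.c_memV hn.vV hf) fun r => ?_
      rw [h.co_c_pair hz hv hza (hFQ hf), h1, CharTwo.add_self_eq_zero]
    rw [h2, one_mul] at hd
    exact inv_mem_iff.1 hd
  · exfalso
    obtain ⟨f', hf', h2, h3⟩ := hF2 (rp M f a)
    have h4 := hDfix _ hd f' hf' a
    have hco : ∀ r, co M (c v f * w⁻¹) r = ((if r = a then 1 else 0) + (if r = rp M f a then 1 else 0)) +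
        co M w r := by
      intro r
      rw [co_mul M (hn.c_memV hn.vV hf) (inv_mem hw), co_inv M hw, h.co_c_pair hz hv hza (hFQ hf)]
    rw [hco, hco, if_neg h2, if_neg h3, if_pos rfl, if_neg (Ne.symm h1), add_zero, zero_add,
      hwc _ a (h.fst_eq (hFQ hf') a) (h.snd_ne (hFQ hf') ha) ha, add_zero] at h4
    exact one_ne_zero (right_eq_add.1 h4)

end QSit

end Cfsg.Agent.Omega.NO1.Sym
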