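import Cfsg.Agent.Omega.NO1.Sym.Pairs

/-!
# N1, sums of even-subset modules: one block (project OMEGA, N1, `SymAll`)

`false_of_half` : there are no `k ≥ 2` blocks.  Input: `O₂(C_G(w)) ≤ S₀` for subgroups `Q ≤ S₀` of index 2 of `S` and
involutions `w ∈ Z(S₀)` (`HalfQ.lean`).
-/

set_option autoImplicit false

namespace Cfsg.Agent.Omega.NO1.Sym

open Subgroup Cfsg Cfsg.Agent.ZN Cfsg.Agent.Omega.FFThm Cfsg.Agent.Omega.Half Cfsg.Agent.Omega.NO1
open Cfsg.Agent.Omega.NoFF.LinesPlug (CC)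
open scoped Pointwise

universe u

/-- `O₂(C_G(w)) ≤ S₀` -/
def HalfStmt (G : Type u) [Group G] : Prop :=
  ∀ (S : Sylow 2 G) (So : Subgroup G), So ≤ (S : Subgroup G) → Nat.card (S : Subgroup G) = 2 * Nat.card So →
    o2 (CC (S : Subgroup G)) ≤ So → ∀ w ∈ So, w ^ 2 = 1 → w ≠ 1 → (∀ s ∈ So, s * w = w * s) →
      o2 (centralizer ({w} : Set G)) ≤ So

variable {G : Type u} [Group G]

/-- A proper subgroup of a 2-group lies in a subgroup of index 2. -/
theorem exists_index_two [Finite G] {S A : Subgroup G} (hS : IsPGroup 2 S) (hA : A ≤ S) (hne : ¬ S ≤ A) :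
    ∃ So : Subgroup G, A ≤ So ∧ So ≤ S ∧ Nat.card S = 2 * Nat.card So := by
  have : Fact (Nat.Prime 2) := ⟨Nat.prime_two⟩
  obtain ⟨n, hn⟩ := IsPGroup.iff_card.1 hS
  obtain ⟨a, ha⟩ := IsPGroup.iff_card.1 (hS.to_le hA)
  have hlt : a < n := by
    have h1 : Nat.card A ∣ Nat.card S := card_dvd_of_le hA
    rw [hn, ha] at h1
    have h2 := (Nat.pow_dvd_pow_iff_le_right' (b := 0)).1 h1
    rcases Nat.lt_or_ge a n with h3 | h3
    · exact h3
    · exfalso
      have h4 : a = n := le_antisymm h2 h3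
      apply hne
      have h5 : A = S := eq_of_le_of_card_ge hA (by rw [hn, ha, h4])
      rw [h5]
  have hA' : Nat.card (A.subgroupOf S) = 2 ^ a := by
    rw [Nat.card_congr (subgroupOfEquivOfLe hA).toEquiv, ha]
  obtain ⟨K, hK, hAK⟩ := Sylow.exists_subgroup_card_pow_prime_le (G := S) 2 (n := a) (m := n - 1)
    (by rw [hn]; exact pow_dvd_pow 2 (by omega)) (A.subgroupOf S) hA' (by omega)
  refine ⟨K.map S.subtype, ?_, map_subtype_le K, ?_⟩
  · intro x hx
    exact ⟨⟨x, hA hx⟩, hAK hx, rfl⟩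
  · rw [card_map_of_injective S.subtype_injective, hK, hn, ← pow_succ']
    congr 1
    omega

/-- Two elements outside a subgroup of index 2. -/
theorem inv_mul_mem [Finite G] {S So : Subgroup G} (hSo : So ≤ S) (hc : Nat.card S = 2 * Nat.card So) {a b : G}
    (ha : a ∈ S) (hb : b ∈ S) (ha' : a ∉ So) (hb' : b ∉ So) : a⁻¹ * b ∈ So := by
  have h1 : (So.subgroupOf S).index = 2 := by
    have h2 := card_mul_index (So.subgroupOf S)
    rw [Nat.card_congr (subgroupOfEquivOfLe hSo).toEquiv, hc, mul_comm] at h2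
    exact Nat.eq_of_mul_eq_mul_right Nat.card_pos h2
  have h2 := mul_mem_iff_of_index_two h1 (a := (⟨a, ha⟩ : S)⁻¹) (b := ⟨b, hb⟩)
  rw [inv_mem_iff] at h2
  have h3 := h2.mpr (iff_of_false (fun h => ha' (mem_subgroupOf.mp h))
    (fun h => hb' (mem_subgroupOf.mp h)))
  exact mem_subgroupOf.mp h3

variable [Finite G] {S : Sylow 2 G} {P : Subgroup G} (h : Cfg S P) {k m : ℕ}
variable (M : SymK (S : Subgroup G) P (zl (S : Subgroup G) P) ⊥ k m) (hm : 2 ≤ m)

include h M hm in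
/-- There are no `k ≥ 2` blocks. -/
theorem false_of_half (hH : HalfStmt G) (hk : 2 ≤ k) : False := by
  classical
  have hm1 : 1 ≤ m := by omega
  have hA := amb h
  have qs := qsit h M hm
  have h5 := five_le hm
  obtain ⟨a, ha, v, hv, hvQ⟩ := exists_v h M hm
  have hSP := h.S_le
  -- the stabiliser of the block of `a`
  let S1 : Subgroup G :=
    { carrier := {s | s ∈ (S : Subgroup G) ∧ ∀ p : Pt k m, (rp M s p).1 = a.1 ↔ p.1 = a.1}
      mul_mem' := by
        rintro s t ⟨hs, h1⟩ ⟨ht, h2⟩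
        refine ⟨mul_mem hs ht, fun p => ?_⟩
        rw [rp_mul M hm1 hA (hSP hs) (hSP ht), Equiv.Perm.mul_apply, h1, h2]
      one_mem' := ⟨one_mem _, fun p => by rw [rp_one M hm1 hA, Equiv.Perm.one_apply]⟩
      inv_mem' := by
        rintro s ⟨hs, h1⟩
        refine ⟨inv_mem hs, fun p => ?_⟩
        rw [rp_inv M hm1 hA (hSP hs), ← h1, apply_inv] }
  have mem_S1 : ∀ s, s ∈ S1 ↔ s ∈ (S : Subgroup G) ∧ (rp M s a).1 = a.1 := by
    intro s
    constructor
    · rintro ⟨h1, h2⟩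
      exact ⟨h1, (h2 a).2 rfl⟩
    · rintro ⟨h1, h2⟩
      refine ⟨h1, fun p => ?_⟩
      have h3 := rp_fst_eq M (hSP h1) (p := p) (q := a)
      rw [h2] at h3
      exact h3
  have hS1 : S1 ≤ (S : Subgroup G) := fun s hs => hs.1
  have hne : ¬ (S : Subgroup G) ≤ S1 := by
    intro hle
    obtain ⟨j, hj⟩ : ∃ j : Fin k, j ≠ a.1 := by
      have hc : ({a.1} : Finset (Fin k)).card < (Finset.univ : Finset (Fin k)).card := by
        rw [Finset.card_univ, Fintype.card_fin, Finset.card_singleton]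
        omega
      obtain ⟨x, -, hx⟩ := Finset.exists_mem_notMem_of_card_lt_card hc
      rw [Finset.mem_singleton] at hx
      exact ⟨x, hx⟩
    obtain ⟨t, ht, h1⟩ := rp_trans M hm1 hA a.1 j
    have h2 := ((mem_S1 t).1 (hle ht)).2
    exact hj ((h1 a.2).symm.trans h2)
  obtain ⟨So, h1o, hoS, hcard⟩ := exists_index_two S.isPGroup' hS1 hne
  -- the blocks of the orbit of `So`
  let J : Set (Fin k) := {j | ∃ s ∈ So, (rp M s a).1 = j}
  have haJ : a.1 ∈ J := ⟨1, one_mem _, by rw [rp_one M hm1 hA, Equiv.Perm.one_apply]⟩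
  have hJ : ∀ s ∈ So, ∀ p : Pt k m, (rp M s p).1 ∈ J ↔ p.1 ∈ J := by
    have key : ∀ s ∈ So, ∀ p : Pt k m, p.1 ∈ J → (rp M s p).1 ∈ J := by
      rintro s hs p ⟨t, ht, h1⟩
      refine ⟨s * t, mul_mem hs ht, ?_⟩
      rw [rp_mul M hm1 hA (hSP (hoS hs)) (hSP (hoS ht)), Equiv.Perm.mul_apply]
      exact (rp_fst_eq M (hSP (hoS hs))).2 h1
    intro s hs p
    refine ⟨fun h1 => ?_, key s hs p⟩
    have h2 := key s⁻¹ (inv_mem hs) _ h1
    rwa [rp_inv M hm1 hA (hSP (hoS hs)), inv_apply] at h2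
  obtain ⟨j0, hj0⟩ : ∃ j, j ∉ J := by
    by_contra hcon
    push Not at hcon
    apply hne
    obtain ⟨t, ht, htS⟩ : ∃ t ∈ (S : Subgroup G), t ∉ So := by
      by_contra hc
      push Not at hc
      have h1 : (S : Subgroup G) = So := le_antisymm hc hoS
      have h2 : Nat.card So = 2 * Nat.card So := by rw [← hcard, h1]
      have h3 : 0 < Nat.card So := Nat.card_pos
      omega
    obtain ⟨s, hs, h1⟩ := hcon (rp M t a).1
    exfalso
    apply htS
    have h2 : s⁻¹ * t ∈ S1 := by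
      refine (mem_S1 _).2 ⟨mul_mem (inv_mem (hoS hs)) ht, ?_⟩
      rw [rp_mul M hm1 hA (hSP (inv_mem (hoS hs))) (hSP ht), Equiv.Perm.mul_apply]
      have h3 : (rp M s⁻¹ (rp M t a)).1 = (rp M s⁻¹ (rp M s a)).1 :=
        (rp_fst_eq M (hSP (inv_mem (hoS hs)))).2 h1.symm
      rw [h3, rp_inv M hm1 hA (hSP (hoS hs)), inv_apply]
    have h3 := mul_mem hs (h1o h2)
    rwa [mul_inv_cancel_left] at h3
  -- the vector `w`
  obtain ⟨w, hwV, hw⟩ := exists_co M (fun p => if p.1 ∈ J then 0 else if p.2 = 0 then 0 else 1) (by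
    intro i
    by_cases hi : i ∈ J
    · simp only [if_pos hi, Finset.sum_const_zero]
    · simp only [if_neg hi]
      rw [← Finset.add_sum_erase _ _ (Finset.mem_univ (0 : Fin (2 ^ m + 1))), if_pos rfl, zero_add,
        Finset.sum_congr rfl fun x hx => if_neg (Finset.ne_of_mem_erase hx), Finset.sum_const,
        Finset.card_erase_of_mem (Finset.mem_univ _), Finset.card_univ, Fintype.card_fin]
      have h8 : 2 ^ m + 1 - 1 = 2 * 2 ^ (m - 1) := by
        rw [Nat.add_sub_cancel, ← pow_succ']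
        congr 1
        omega
      rw [h8, mul_nsmul, two_nsmul, CharTwo.add_self_eq_zero, nsmul_zero])
  have hconst : Const M w := by
    refine ⟨hwV, fun p hp => ?_, fun p q h1 h2 h3 => ?_⟩
    · rw [hw]
      simp only [hp, if_true, ite_self]
    · rw [hw, hw, h1, if_neg h2, if_neg h3]
  have hw1 : w ≠ 1 := by
    intro h1
    have h2 := hw (j0, Fin.last (2 ^ m))
    rw [h1, co_one, if_neg hj0, if_neg] at h2
    · exact zero_ne_one h2
    · intro h0
      have h6 : (Fin.last (2 ^ m) : Fin (2 ^ m + 1)).val = 2 ^ m := Fin.val_last _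
      have h7 := congrArg Fin.val h0
      rw [Fin.val_zero] at h7
      have h8 : (Fin.last (2 ^ m) : Fin (2 ^ m + 1)).val = 0 := h7
      omega
  have hw2 : w ^ 2 = 1 := hA.sq w hwV
  -- elements of `P` preserving the coordinates of `w` centralise `w`
  have hcent : ∀ g ∈ P, (∀ p : Pt k m, co M w (rp M g p) = co M w p) → g * w = w * g := by
    intro g hg h1
    have h2 : g * w * g⁻¹ = w := by
      refine ext_co M (hA.conj_mem hg hwV) hwV fun p => ?_
      obtain ⟨r, rfl⟩ := (rp M g).surjective p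
      rw [co_rp M hg hwV, h1]
    exact mul_inv_eq_iff_eq_mul.1 h2
  have hSow : ∀ s ∈ So, s * w = w * s := by
    intro s hs
    refine hcent s (hSP (hoS hs)) fun p => ?_
    have h2 := hJ s hs p
    have h3 : (rp M s p).2 = 0 ↔ p.2 = 0 := (T_le_H0 M hm1 hA (hoS hs)).2 p
    rw [hw, hw]
    simp only [h2, h3]
  have hwSo : w ∈ So := by
    refine h1o ((mem_S1 w).2 ⟨hA.VT hwV, ?_⟩)
    have h2 : rp M w = 1 := (rp_eq_one_iff M hm1 hA (hSP (hA.VT hwV))).2 fun u hu => hA.comm w hwV u hu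
    rw [h2, Equiv.Perm.one_apply]
  have hQSo : o2 (CC (S : Subgroup G)) ≤ So := fun q hq => h1o ((mem_S1 q).2 ⟨qs.le hq, qs.fst_eq hq a⟩)
  have hR := hH S So hoS hcard hQSo w hwSo hw2 hw1 hSow
  set R := o2 (centralizer ({w} : Set G)) with hRdef
  have hvR : v ∉ R := not_mem_o2 h M hm ha hv hvQ hconst
  have hnR : ∀ g ∈ centralizer ({w} : Set G), ∀ x ∈ R, g * x * g⁻¹ ∈ R := fun g hg x hx =>
    (mem_normalizer_iff.1 (le_normalizer_o2 _ hg) x).1 hx
  have hVc : zl (S : Subgroup G) P ≤ centralizer ({w} : Set G) := fun x hx =>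
    mem_centralizer_singleton_iff.2 (hA.comm x hx w hwV)
  -- a pair in a block of `J` is not in `R`
  have hpair : ∀ p q : Pt k m, p.1 = q.1 → p.1 ∈ J → p ≠ q → ∀ u, IsPair M p q u → u ∉ R := by
    -- swaps in a block of `J` centralise `w`
    have hsw : ∀ p q : Pt k m, p.1 = q.1 → p.1 ∈ J → ∃ g ∈ P, g ∈ centralizer ({w} : Set G) ∧
        rp M g = Equiv.swap p q := by
      intro p q h1 h2
      obtain ⟨g, hg, h3⟩ := exists_swap M hm1 hA h1
      refine ⟨g, hg, mem_centralizer_singleton_iff.2 (hcent g hg fun r => ?_), h3⟩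
      rw [h3]
      by_cases hr1 : r = p
      · rw [hr1, Equiv.swap_apply_left, hw, hw, if_pos h2, if_pos (h1 ▸ h2)]
      · by_cases hr2 : r = q
        · rw [hr2, Equiv.swap_apply_right, hw, hw, if_pos h2, if_pos (h1 ▸ h2)]
        · rw [Equiv.swap_apply_of_ne_of_ne hr1 hr2]
    -- first in the block of `a`
    have h0 : ∀ p q : Pt k m, p.1 = a.1 → q.1 = a.1 → p ≠ q → ∀ u, IsPair M p q u → u ∉ R := by
      intro p q hp hq hne' u hu huR
      apply hvR
      have hz : ((a.1, 0) : Pt k m) ≠ a := fun h0 => ha (congrArg Prod.snd h0).symm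
      -- move `p` to `(a.1, 0)`
      obtain ⟨g1, hg1, hg1c, e1⟩ := hsw p (a.1, 0) hp (hp ▸ haJ)
      have k1 := hu.conj hA hg1
      rw [e1, Equiv.swap_apply_left] at k1
      set q' := Equiv.swap p ((a.1, 0) : Pt k m) q with hq'
      have hq'1 : q'.1 = a.1 := by
        rw [hq']
        by_cases h6 : q = (a.1, 0)
        · rw [h6, Equiv.swap_apply_right, hp]
        · rw [Equiv.swap_apply_of_ne_of_ne (Ne.symm hne') h6, hq]
      have hq'0 : q' ≠ (a.1, 0) := by
        intro h6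
        have h7 : q' = Equiv.swap p ((a.1, 0) : Pt k m) p := by rw [h6, Equiv.swap_apply_left]
        exact hne' ((Equiv.swap p ((a.1, 0) : Pt k m)).injective h7).symm
      obtain ⟨g2, hg2, hg2c, e2⟩ := hsw q' a hq'1 (hq'1 ▸ haJ)
      have k2 := k1.conj hA hg2
      rw [e2, Equiv.swap_apply_left, Equiv.swap_apply_of_ne_of_ne (Ne.symm hq'0) hz] at k2
      rw [hv.unique k2]
      exact hnR g2 hg2c _ (hnR g1 hg1c _ huR)
    rintro p q h1 ⟨s, hs, h2⟩ hne' u hu huR
    have hsP := hSP (hoS hs)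
    have hsc : s⁻¹ ∈ centralizer ({w} : Set G) := inv_mem (mem_centralizer_singleton_iff.2 (hSow s hs))
    have k1 := hu.conj hA (inv_mem hsP)
    have e1 : (rp M s⁻¹ p).1 = a.1 := by
      have h3 : (rp M s⁻¹ p).1 = (rp M s⁻¹ (rp M s a)).1 := (rp_fst_eq M (inv_mem hsP)).2 h2.symm
      rw [h3, rp_inv M hm1 hA hsP, inv_apply]
    have e2 : (rp M s⁻¹ q).1 = a.1 := by
      rw [← e1]
      exact ((rp_fst_eq M (inv_mem hsP)).2 h1).symm
    exact h0 _ _ e1 e2 (fun h3 => hne' ((rp M s⁻¹).injective h3)) _ k1 (hnR _ hsc _ huR)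
  -- `R` contains no vector with support in `J`
  have hVJ : ∀ x ∈ zl (S : Subgroup G) P, (∀ p : Pt k m, p.1 ∉ J → co M x p = 0) → x ∈ R → x = 1 := by
    intro x hx hxJ hxR
    by_contra hx1
    obtain ⟨p, hp⟩ : ∃ p, co M x p ≠ 0 := by
      by_contra hcon
      push Not at hcon
      exact hx1 (eq_one_of_co M hx hcon)
    have hpJ : p.1 ∈ J := by
      by_contra hc
      exact hp (hxJ p hc)
    obtain ⟨y, hy⟩ : ∃ y, co M x (p.1, y) = 0 := by
      by_contra hcon
      push Not at hcon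
      have h6 := sum_co M hx p.1
      rw [Finset.sum_congr rfl fun y _ => (ne_zero_iff _).1 (hcon y), Finset.sum_const, Finset.card_univ,
        Fintype.card_fin, nsmul_eq_mul, mul_one] at h6
      have h8 : 2 ^ m + 1 = 2 * 2 ^ (m - 1) + 1 := by
        rw [← pow_succ']
        congr 2
        omega
      rw [h8, Nat.cast_add, Nat.cast_mul, Nat.cast_one] at h6
      have h9 : ((2 : ℕ) : ZMod 2) = 0 := by decide
      rw [h9, zero_mul, zero_add] at h6
      exact one_ne_zero h6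
    set q : Pt k m := (p.1, y) with hq
    have hpq : p ≠ q := fun h6 => hp (by rw [h6]; exact hy)
    obtain ⟨g, hg, h7⟩ := exists_swap M hm1 hA (p := p) (q := q) rfl
    have hgc : g ∈ centralizer ({w} : Set G) := by
      refine mem_centralizer_singleton_iff.2 (hcent g hg fun r => ?_)
      rw [h7]
      by_cases hr1 : r = p
      · rw [hr1, Equiv.swap_apply_left, hw, hw, if_pos hpJ, if_pos hpJ]
      · by_cases hr2 : r = q
        · rw [hr2, Equiv.swap_apply_right, hw, hw, if_pos hpJ, if_pos hpJ]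
        · rw [Equiv.swap_apply_of_ne_of_ne hr1 hr2]
    have hx' : g * x * g⁻¹ ∈ zl (S : Subgroup G) P := hA.conj_mem hg hx
    have hpr : IsPair M p q (g * x * g⁻¹ * x⁻¹) := by
      refine ⟨mul_mem hx' (inv_mem hx), fun r => ?_⟩
      rw [co_mul M hx' (inv_mem hx), co_inv M hx]
      have h8 : co M (g * x * g⁻¹) r = co M x (Equiv.swap p q r) := by
        have := co_rp M hg hx (Equiv.swap p q r)
        rwa [h7, Equiv.swap_apply_self] at this
      rw [h8]
      by_cases hr1 : r = p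
      · rw [hr1, Equiv.swap_apply_left, if_pos (Or.inl rfl), (ne_zero_iff _).1 hp]
        rw [show co M x q = 0 from hy, zero_add]
      · by_cases hr2 : r = q
        · rw [hr2, Equiv.swap_apply_right, if_pos (Or.inr rfl), (ne_zero_iff _).1 hp,
            show co M x q = 0 from hy, add_zero]
        · rw [Equiv.swap_apply_of_ne_of_ne hr1 hr2, if_neg (not_or.2 ⟨hr1, hr2⟩), CharTwo.add_self_eq_zero]
    exact hpair p q rfl hpJ hpq _ hpr (mul_mem (hnR g hgc x hxR) (inv_mem hxR))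
  -- the end
  have hvV := hv.1
  have hvJ : ∀ p : Pt k m, p.1 ∉ J → co M v p = 0 := by
    intro p hp
    rw [hv.2, if_neg]
    rintro (rfl | rfl)
    · exact hp haJ
    · exact hp haJ
  apply hvR
  refine MinSimple.Basic.char2_centralizer h.ctx.char2 hw2 hw1 ⟨hVc hvV, mem_centralizer_iff.2 fun r hr => ?_⟩
  have hrSo : r ∈ So := hR hr
  have hrP : r ∈ P := hSP (hoS hrSo)
  have hr' : r * v * r⁻¹ ∈ zl (S : Subgroup G) P := hA.conj_mem hrP hvV
  have h6 : r * v * r⁻¹ * v⁻¹ = 1 := by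
    refine hVJ _ (mul_mem hr' (inv_mem hvV)) (fun p hp => ?_) ?_
    · rw [co_mul M hr' (inv_mem hvV), co_inv M hvV, hvJ p hp, add_zero]
      obtain ⟨s, rfl⟩ := (rp M r).surjective p
      rw [co_rp M hrP hvV]
      exact hvJ s fun hs => hp ((hJ r hrSo s).2 hs)
    · have e : r * v * r⁻¹ * v⁻¹ = r * (v * r⁻¹ * v⁻¹) := by group
      rw [e]
      exact mul_mem hr (hnR v (hVc hvV) _ (inv_mem hr))
  have h7 : r * v * r⁻¹ = v := mul_inv_eq_one.1 h6
  exact mul_inv_eq_iff_eq_mul.1 h7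

end Cfsg.Agent.Omega.NO1.Sym
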