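import Cfsg.Agent.Omega.Half.Basic
import Cfsg.Agent.ZN.ChoiceSit
import Cfsg.Agent.ZN.CaseTwo

/-!
# A subgroup of index 2 containing `O₂(C_G(Ω₁(Z(S))))` (project OMEGA, N1, `SymAll`, text helper457 #14697 (5))

`|S : So| = 2`, `O₂(C_G(Ω₁(Z(S)))) ≤ So`, `w` an involution of `Z(So)`: then `O₂(C_G(w)) ≤ So`.
-/

set_option autoImplicit false

namespace Cfsg.Agent.Omega.NO1.Sym.HalfQ

open Subgroup Cfsg Cfsg.Agent.ZN Cfsg.Agent.ZN.ChoiceSit Cfsg.Agent.Omega.MinPar Cfsg.Agent.Omega.Half
open Cfsg.Agent.ZN.ChoiceBase hiding mem_zc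
open Cfsg.Agent.MinSimple.VModule (mem_zc)

universe u

variable {G : Type u} [Group G]

/-- A subgroup of index 2 is normal. -/
theorem le_normalizer_of_two [Finite G] {A B : Subgroup G} (hAB : A ≤ B) (h : Nat.card B = 2 * Nat.card A) :
    B ≤ normalizer (A : Set G) := by
  have h1 := card_mul_relIndex hAB
  have h2 : A.relIndex B = 2 := by
    rw [h, mul_comm] at h1
    exact Nat.eq_of_mul_eq_mul_right Nat.card_pos h1
  exact (normal_subgroupOf_iff_le_normalizer hAB).1 (normal_of_index_eq_two h2)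

theorem o2_le_of_index_two [Finite G] (S : Sylow 2 G) {So : Subgroup G} (hSo : So ≤ S)
    (hidx : Nat.card (S : Subgroup G) = 2 * Nat.card So)
    (hQ : o2 (centralizer (zc (S : Subgroup G) : Set G)) ≤ So) {w : G} (hw : w ∈ So) (hw2 : w ^ 2 = 1) (_hw1 : w ≠ 1)
    (hc : ∀ s ∈ So, s * w = w * s) : o2 (centralizer ({w} : Set G)) ≤ So := by
  have hp : Fact (Nat.Prime 2) := ⟨Nat.prime_two⟩
  have hSo2 : IsPGroup 2 So := S.isPGroup'.to_le hSo
  have hSoC : So ≤ centralizer ({w} : Set G) := fun s hs => by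
    rw [mem_centralizer_iff]
    intro y hy
    rw [Set.mem_singleton_iff.1 hy]
    exact (hc s hs).symm
  obtain ⟨T, hST, hTC, hT2, hTs⟩ := exists_sylow_le hSo2 hSoC
  have hO : o2 (centralizer ({w} : Set G)) ≤ T := MinSimple.VModule.o2_le_of_sylow hT2 hTs
  by_cases hne : T ≤ So
  · exact hO.trans hne
  · -- `T` is a Sylow 2-subgroup of `G`
    have h1 : So.relIndex T ≠ 1 := fun h => hne (relIndex_eq_one.1 h)
    have h2 := card_mul_relIndex hST
    have h3 := card_le_sylow S hT2
    have h4 : Nat.card T = Nat.card (S : Subgroup G) := by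
      have h5 : So.relIndex T ≠ 0 := fun h => by
        rw [h, mul_zero] at h2
        exact Nat.card_pos.ne h2
      have h6 : 2 ≤ So.relIndex T := by omega
      have h7 : Nat.card So * 2 ≤ Nat.card T := by
        rw [← h2]
        exact Nat.mul_le_mul_left _ h6
      omega
    have hTn := le_normalizer_of_two hST (h4.trans hidx)
    have hSn := le_normalizer_of_two hSo hidx
    obtain ⟨R, hR⟩ := hT2.exists_le_sylow
    have hRT : (R : Subgroup G) = T := by
      refine (eq_of_le_of_card_ge hR ?_).symm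
      rw [R.card_eq_multiplicity, ← S.card_eq_multiplicity, h4]
    obtain ⟨a, ha, hae⟩ := syl_conj (CaseTwo.syl_of_sylow S hSn)
      (CaseTwo.syl_of_sylow R (hRT ▸ hTn))
    rw [hRT] at hae
    have hw' : w ∈ cj a (zc (S : Subgroup G)) := by
      have h5 : zc (cj a (S : Subgroup G)) = cj a (zc (S : Subgroup G)) :=
        zc_map (MulAut.conj a).toMonoidHom (MulAut.conj a).injective _
      rw [← h5, hae, mem_zc]
      exact ⟨hST hw, fun b hb => ((mem_centralizer_iff.1 (hTC hb)) w rfl).symm, hw2⟩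
    have h6 : centralizer ((cj a (zc (S : Subgroup G)) : Subgroup G) : Set G) ≤ centralizer ({w} : Set G) := by
      refine centralizer_le ?_
      rw [Set.singleton_subset_iff]
      exact hw'
    have h7 : T ≤ centralizer ((cj a (zc (S : Subgroup G)) : Subgroup G) : Set G) := by
      rw [← cj_centralizer, ← hae]
      exact cj_mono a (MinSimple.VModule.le_centralizer_zc _)
    have h8 : o2 (centralizer ({w} : Set G)) ≤ o2 (centralizer ((cj a (zc (S : Subgroup G)) : Subgroup G) : Set G)) :=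
      o2_le_o2 R (hRT ▸ h7) h6
    refine h8.trans ?_
    rw [← cj_centralizer, o2_cj]
    have h9 := cj_mono a hQ
    rwa [cj_eq_of_mem_normalizer ha] at h9

end Cfsg.Agent.Omega.NO1.Sym.HalfQ
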