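import Cfsg.Agent.Omega.Node.NO1
import Cfsg.Agent.Omega.NO1.Sym.Half
import Cfsg.Agent.Omega.NO1.Sym.EndOne
import Cfsg.Agent.Omega.NO1.Sym.HalfQ

/-!
# `SymAll`: `V_P` a sum of even-subset modules (project OMEGA, N1, text #14697)

`symAll : NO1.SymAll`: then `k = 1`, `m = 2` and `V_P = O₄⁻(2)`.
-/

set_option autoImplicit false

namespace Cfsg.Agent.Omega.NO1.Sym

open Subgroup Cfsg Cfsg.Agent.ZN Cfsg.Agent.Omega.MinPar Cfsg.Agent.Omega.Frame
open Cfsg.Agent.Omega.NoFF.LinesPlug (CC)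
open Cfsg.Agent.Omega.FFThm (SymK)
open Cfsg.Agent.Omega.FrameFF (cv)

universe u

/-- **`SymAll`** (text #14697). -/
theorem symAll : NO1.SymAll.{u} := by
  intro G _ _ S P h k m hk hm M
  have e : cv (S : Subgroup G) P = ⊥ := h.one.cen
  have M' : SymK (S : Subgroup G) P (zl (S : Subgroup G) P) ⊥ k m := e ▸ M
  have hH : HalfStmt G := fun T To hT hc hQ w hw hw2 hw1 hcen =>
    HalfQ.o2_le_of_index_two T hT hc hQ hw hw2 hw1 hcen
  have hm2 : m = 2 := m_eq_two h M' hm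
  subst hm2
  rcases Nat.lt_or_ge 1 k with hk1 | hk1
  · exact (false_of_half h M' hm hH hk1).elim
  · have hk2 : k = 1 := by omega
    subst hk2
    obtain ⟨z, hz⟩ := EndOne.minus2 h M
    exact Ty.minus2 z hz

end Cfsg.Agent.Omega.NO1.Sym
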