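import Cfsg.Agent.Omega.NO1.Sym.Frame
import Cfsg.Agent.Omega.NO1.Cfg

/-!
# N1, sums of even-subset modules: `E`, and the frame at a pair (project OMEGA, N1, `SymAll`)

* `pair_mem` : all pairs of points `(i, x), (i, y)`, `x, y ≠ 0`, lie in `E = V ∩ Q`, and `m = 2`;
* `exists_v` : some pair `v = {(i, 0), a}` is not in `Q`;
* `not_mem_of_frame` : `v ∉ R` for every 2-group `R` normalised by `X` in a frame at `v`;
* `not_mem_o2` : `v ∉ O₂(C_G(w))` for every vector `w` which is constant on the points `(j, x)`, `x ≠ 0`, of every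
  block and zero at the points `(j, 0)`.
-/

set_option autoImplicit false

namespace Cfsg.Agent.Omega.NO1.Sym

open Subgroup Cfsg Cfsg.Agent.ZN Cfsg.Agent.Omega.FFThm Cfsg.Agent.Omega.Half Cfsg.Agent.Omega.NO1
open Cfsg.Agent.Omega.NOne.NearFF
open Cfsg.Agent.Omega.NoFF.LinesPlug (CC)
open Cfsg.Agent.MinSimple.VModule (o2_isPGroup)
open scoped Pointwise

universe u

section generic

variable {G : Type u} [Group G]

theorem conj_mem_smul {g x : G} {A : Subgroup G} (h : x ∈ A) : g * x * g⁻¹ ∈ MulAut.conj g • A :=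
  NOne.Frame.conj_mem h

theorem le_normalizer_sup {K A B : Subgroup G} (hA : K ≤ normalizer (A : Set G))
    (hB : K ≤ normalizer (B : Set G)) : K ≤ normalizer ((A ⊔ B : Subgroup G) : Set G) := by
  have key : ∀ x ∈ K, MulAut.conj x • (A ⊔ B) ≤ A ⊔ B := by
    intro x hx
    rw [Subgroup.smul_sup]
    refine sup_le_sup ?_ ?_
    · intro y hy
      obtain ⟨z, hz, rfl⟩ := NOne.Frame.mem_conj'.1 hy
      exact (mem_normalizer_iff.1 (hA hx) z).1 hz
    · intro y hy
      obtain ⟨z, hz, rfl⟩ := NOne.Frame.mem_conj'.1 hy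
      exact (mem_normalizer_iff.1 (hB hx) z).1 hz
  intro x hx
  rw [mem_normalizer_iff]
  intro y
  refine ⟨fun hy => key x hx (conj_mem_smul hy), fun hy => ?_⟩
  have := key x⁻¹ (inv_mem hx) (conj_mem_smul hy)
  have e : x⁻¹ * (x * y * x⁻¹) * x⁻¹⁻¹ = y := by group
  rwa [e] at this

/-- `v ∉ R` if `R` is a 2-group normalised by the non-2-group `X` of a frame at `v`. -/
theorem not_mem_of_frame {V Q R : Subgroup G} {v g : G} (hfr : NOne.Frame.Fr (V1 V Q v) Q g)
    (hX : ¬ IsPGroup 2 (NOne.Frame.X (V1 V Q v) g)) (hQ : IsPGroup 2 Q) (hR : IsPGroup 2 R)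
    (hXR : NOne.Frame.X (V1 V Q v) g ≤ normalizer (R : Set G)) : v ∉ R := by
  intro hv
  apply hX
  set X := NOne.Frame.X (V1 V Q v) g with hXdef
  set W := NOne.Frame.W (V1 V Q v) Q g with hWdef
  have hWX : W ≤ X := sup_le (inf_le_left.trans le_sup_left)
    ((NOne.Frame.Fr.E'_le_V').trans le_sup_right)
  have hW2 : IsPGroup 2 W := hQ.to_le hfr.W_le_Q
  have hXRX : X ≤ normalizer ((R ⊓ X : Subgroup G) : Set G) := by
    intro x hx
    have h1 := mem_normalizer_iff.1 (hXR hx)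
    have h2 : x ∈ normalizer (X : Set G) := le_normalizer hx
    have h3 := mem_normalizer_iff.1 h2
    rw [mem_normalizer_iff]
    exact fun y => and_congr (h1 y) (h3 y)
  have hRX2 : IsPGroup 2 (R ⊓ X : Subgroup G) := hR.to_le inf_le_left
  have hN2 : IsPGroup 2 (W ⊔ (R ⊓ X) : Subgroup G) := hW2.to_sup_of_normal_right' hRX2 (hWX.trans hXRX)
  have hXN : X ≤ normalizer ((W ⊔ (R ⊓ X) : Subgroup G) : Set G) := le_normalizer_sup hfr.X_norm_W hXRX
  have hvV : v ∈ V1 V Q v := mem_sup_right (mem_zpowers v)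
  have hvX : v ∈ X := mem_sup_left hvV
  have hv' : g * v * g⁻¹ ∈ X := mem_sup_right (conj_mem_smul hvV)
  have hz2 : IsPGroup 2 (zpowers (g * v * g⁻¹)) := by
    have h1 : IsPGroup 2 (MulAut.conj g • R : Subgroup G) := hR.map _
    exact h1.to_le (zpowers_le.2 (conj_mem_smul hv))
  have hfin : IsPGroup 2 (zpowers (g * v * g⁻¹) ⊔ (W ⊔ (R ⊓ X)) : Subgroup G) :=
    hz2.to_sup_of_normal_right' hN2 (zpowers_le.2 (hXN hv'))
  refine hfin.to_le ?_
  have e1 : V ⊓ Q ≤ W := by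
    refine le_trans ?_ le_sup_left
    exact le_inf le_sup_left inf_le_right
  have e2 : MulAut.conj g • (V ⊓ Q) ≤ W := by
    refine le_trans ?_ le_sup_right
    intro y hy
    obtain ⟨z, hz, rfl⟩ := NOne.Frame.mem_conj'.1 hy
    exact conj_mem_smul ⟨mem_sup_left hz, hz.2⟩
  have hWf : W ≤ zpowers (g * v * g⁻¹) ⊔ (W ⊔ (R ⊓ X)) := le_trans le_sup_left le_sup_right
  refine sup_le (sup_le (e1.trans hWf) (zpowers_le.2 ?_)) ?_
  · exact mem_sup_right (mem_sup_right ⟨hv, hvX⟩)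
  · have e3 : MulAut.conj g • (V1 V Q v) = MulAut.conj g • (V ⊓ Q) ⊔ MulAut.conj g • zpowers v :=
      Subgroup.smul_sup _ _ _
    rw [e3]
    refine sup_le (e2.trans hWf) ?_
    intro y hy
    obtain ⟨z, hz, rfl⟩ := NOne.Frame.mem_conj'.1 hy
    obtain ⟨n, rfl⟩ := mem_zpowers_iff.1 hz
    refine mem_sup_left ?_
    rw [← conj_zpow]
    exact zpow_mem (mem_zpowers _) n

end generic

variable {G : Type u} [Group G] [Finite G] {S : Sylow 2 G} {P : Subgroup G} (h : Cfg S P) {k m : ℕ}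
variable (M : SymK (S : Subgroup G) P (zl (S : Subgroup G) P) ⊥ k m) (hm : 2 ≤ m)

theorem amb {S : Sylow 2 G} {P : Subgroup G} (h : Cfg S P) :
    Amb (S : Subgroup G) P (zl (S : Subgroup G) P) := amb_of_loc h.ctx.char2 S h.loc

include h in
theorem H0_le_CC : H0 M (by omega) (amb h) ≤ CC (S : Subgroup G) := by
  intro g hg
  refine mem_centralizer_iff.2 fun w hw => ?_
  exact (H0_comm M (by omega) (amb h) S.isPGroup' (MinSimple.Basic.not_dvd_relIndex S h.S_le) hw hg).symm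

theorem qsit : QSit M hm (amb h) (o2 (CC (S : Subgroup G))) where
  le := h.Q_le_S
  two := S.isPGroup'
  norm g hg q hq := (mem_normalizer_iff.1 (le_normalizer_o2 _ (H0_le_CC h M hm hg)) q).1 hq

include h hm in
/-- `Q` does not centralise `V`. -/
theorem exists_moved : ∃ q ∈ o2 (CC (S : Subgroup G)), ∃ p, rp M q p ≠ p := by
  by_contra hcon
  push Not at hcon
  apply h.one.not_le
  intro v hv
  refine h.char2C ⟨h.V_le_CC hv, mem_centralizer_iff.2 fun q hq => ?_⟩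
  have h1 : rp M q = 1 := Equiv.ext fun p => hcon q hq p
  exact (rp_eq_one_iff M (by omega) (amb h) ((qsit h M hm).Q_le_H hq)).1 h1 v hv

include h M hm in
theorem m_eq_two : m = 2 := by
  obtain ⟨q, hq, p, hp⟩ := exists_moved h M hm
  exact (qsit h M hm).eq_two hq hp

include h hm in
/-- All pairs of points `(i, x), (i, y)`, `x, y ≠ 0`, lie in `E`. -/
theorem pair_mem {p q : Pt k m} (h1 : p.1 = q.1) (hp : p.2 ≠ 0) (hq : q.2 ≠ 0) (hne : p ≠ q) {u : G}
    (hu : IsPair M p q u) : u ∈ zl (S : Subgroup G) P ⊓ o2 (CC (S : Subgroup G)) := by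
  classical
  have hm1 : 1 ≤ m := by omega
  have qs := qsit h M hm
  have hA := amb h
  obtain ⟨y, hy, a, ha⟩ := exists_moved h M hm
  have ha0 : a.2 ≠ 0 := fun h0 => ha (qs.fix_zero hy h0)
  -- one pair
  have hz : ((a.1, 0) : Pt k m) ≠ a := fun h0 => ha0 (congrArg Prod.snd h0).symm
  obtain ⟨v, hv, hv'⟩ := exists_pair M (p := (a.1, 0)) (q := a) rfl hz
  have hc1 : IsPair M a (rp M y a) (c v y) := by
    have hyV : y ∈ normalizer (zl (S : Subgroup G) P : Set G) := h.Q_norm_V hy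
    refine ⟨?_, fun r => ?_⟩
    · have e : c v y = v * (y * v⁻¹ * y⁻¹) := by rw [c]; group
      rw [e]
      exact mul_mem hv ((mem_normalizer_iff.1 hyV _).1 (inv_mem hv))
    · rw [qs.co_c_pair rfl ⟨hv, hv'⟩ hz hy]
      by_cases h2 : r = a
      · have h3 : r ≠ rp M y a := fun h3 => ha (h3.symm.trans h2)
        rw [if_pos h2, if_neg h3, if_pos (Or.inl h2), add_zero]
      · by_cases h3 : r = rp M y a
        · rw [if_neg h2, if_pos h3, if_pos (Or.inr h3), zero_add]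
        · rw [if_neg h2, if_neg h3, if_neg (not_or.2 ⟨h2, h3⟩), add_zero]
  have hc2 : c v y ∈ o2 (CC (S : Subgroup G)) := by
    have hvC := le_normalizer_o2 _ (h.V_le_CC hv)
    exact mul_mem ((mem_normalizer_iff.1 hvC _).1 hy) (inv_mem hy)
  -- conjugation
  obtain ⟨t, ht, htp⟩ := exists_T M hm1 hA S.isPGroup' (MinSimple.Basic.not_dvd_relIndex S h.S_le) ha0 hp
  have ht0 := T_le_H0 M hm1 hA ht
  set b := rp M t (rp M y a) with hb
  have hb1 : b.1 = p.1 := by
    rw [hb, ← htp]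
    exact (rp_fst_eq M (hA.TH ht)).2 (qs.fst_eq hy a)
  have hb0 : b.2 ≠ 0 := fun h0 => qs.snd_ne hy ha0 ((ht0.2 _).1 h0)
  have hbp : b ≠ p := by
    intro h2
    rw [hb, ← htp] at h2
    exact ha ((rp M t).injective h2)
  obtain ⟨g, hg, hg'⟩ := exists_swap0 M hm1 hA (hb1.trans h1) hb0 hq
  have hgt : g * t ∈ H0 M hm1 hA := mul_mem hg ht0
  have h3 := hc1.conj hA hgt.1
  have e1 : rp M (g * t) a = p := by
    rw [rp_mul M hm1 hA hg.1 (hA.TH ht), Equiv.Perm.mul_apply, htp, hg',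
      Equiv.swap_apply_of_ne_of_ne (Ne.symm hbp) hne]
  have e2 : rp M (g * t) (rp M y a) = q := by
    rw [rp_mul M hm1 hA hg.1 (hA.TH ht), Equiv.Perm.mul_apply, ← hb, hg', Equiv.swap_apply_left]
  rw [e1, e2] at h3
  rw [hu.unique h3]
  exact ⟨h3.1, qs.norm _ hgt _ hc2⟩

include h hm in
/-- Some pair `{(i, 0), a}` is not in `Q`. -/
theorem exists_v : ∃ a : Pt k m, a.2 ≠ 0 ∧ ∃ v, IsPair M (a.1, 0) a v ∧ v ∉ o2 (CC (S : Subgroup G)) := by
  by_contra hcon
  push Not at hcon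
  apply h.one.not_le
  intro w hw
  refine mem_of_pairs M (Good := fun _ => True) (fun p q h1 hne _ _ u hu => ?_) hw fun _ _ => trivial
  by_cases hp : p.2 = 0
  · have hq : q.2 ≠ 0 := fun hq => hne (Prod.ext h1 (hp.trans hq.symm))
    refine hcon q hq u ?_
    have e : p = (q.1, 0) := Prod.ext h1 hp
    rwa [← e]
  · by_cases hq : q.2 = 0
    · refine hcon p hp u ?_
      have e : q = (p.1, 0) := Prod.ext h1.symm hq
      rw [← e]
      exact hu.symm
    · exact (pair_mem h M hm h1 hp hq hne hu).2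

/-- `w` is constant on the points `(j, x)`, `x ≠ 0`, of every block and zero at the points `(j, 0)`. -/
def Const (M : SymK (S : Subgroup G) P (zl (S : Subgroup G) P) ⊥ k m) (w : G) : Prop :=
  w ∈ zl (S : Subgroup G) P ∧ (∀ p : Pt k m, p.2 = 0 → co M w p = 0) ∧
    ∀ p q : Pt k m, p.1 = q.1 → p.2 ≠ 0 → q.2 ≠ 0 → co M w p = co M w q

include h hm in
/-- `v ∉ O₂(C_G(w))` -/
theorem not_mem_o2 {a : Pt k m} (ha : a.2 ≠ 0) {v : G} (hv : IsPair M (a.1, 0) a v)
    (hvQ : v ∉ o2 (CC (S : Subgroup G))) {w : G} (hw : Const M w) : v ∉ o2 (centralizer ({w} : Set G)) := by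
  have hz : ((a.1, 0) : Pt k m) ≠ a := fun h0 => ha (congrArg Prod.snd h0).symm
  obtain ⟨g, hg, hf, hX, -⟩ := h.exists_near hv.1 hvQ
  have hFQ : MulAut.conj g • (zl (S : Subgroup G) P ⊓ o2 (CC (S : Subgroup G))) ≤ o2 (CC (S : Subgroup G)) := by
    intro y hy
    obtain ⟨x, hx, rfl⟩ := NOne.Frame.mem_conj'.1 hy
    exact (mem_normalizer_iff.1 (le_normalizer_o2 _ hg) x).1 hx.2
  have hwD := (qsit h M hm).const_mem_D (z := (a.1, 0)) (a := a) rfl rfl ha hv hf.near hFQ hf.ne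
    (fun p q h1 h2 h3 h4 u hu => pair_mem h M hm h1 h2 h3 h4 hu) hw.1 hw.2.1 hw.2.2
  refine not_mem_of_frame hf.fr hX (o2_isPGroup _) (o2_isPGroup _) ?_
  refine le_trans ?_ (le_normalizer_o2 _)
  have h1 : NOne.Frame.X (V1 (zl (S : Subgroup G) P) (o2 (CC (S : Subgroup G))) v) g ≤
      zl (S : Subgroup G) P ⊔ MulAut.conj g • zl (S : Subgroup G) P := by
    refine sup_le_sup (V1_le hv.1) ?_
    intro y hy
    obtain ⟨x, hx, rfl⟩ := NOne.Frame.mem_conj'.1 hy
    exact conj_mem_smul (V1_le hv.1 hx)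
  intro x hx
  exact mem_centralizer_singleton_iff.2 (hf.cent x (h1 hx) w hwD)

end Cfsg.Agent.Omega.NO1.Sym
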