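import Cfsg.Agent.Omega.Half.AppNat

/-!
# Sums of even-subset modules: coordinates and the permutation representation (project OMEGA, N1, `SymAll`)

`M : SymK T H V ⊥ k m`, `Pt k m = Fin k × Fin (2^m+1)` the set of points; `co M v p` the coordinate of `v ∈ V` at
the point `p`; `rp M g` the permutation of the points induced by `g ∈ H`.
-/

set_option autoImplicit false

namespace Cfsg.Agent.Omega.NO1.Sym

open Subgroup Cfsg Cfsg.Agent.ZN Cfsg.Agent.Omega.FFThm Cfsg.Agent.Omega.Half

universe u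

variable {G : Type u} [Group G] {T H V : Subgroup G} {k m : ℕ}

/-- The points. -/
abbrev Pt (k m : ℕ) : Type := Fin k × Fin (2 ^ m + 1)

section basic

variable (M : SymK T H V ⊥ k m)

/-- The coordinates. -/
def co (v : G) (p : Pt k m) : ZMod 2 := M.e v p.1 p.2

theorem co_mul {v w : G} (hv : v ∈ V) (hw : w ∈ V) (p : Pt k m) : co M (v * w) p = co M v p + co M w p := by
  unfold co
  rw [M.mul v hv w hw]
  rfl

theorem co_one (p : Pt k m) : co M 1 p = 0 := by
  have h := co_mul M (one_mem V) (one_mem V) p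
  rw [one_mul] at h
  exact left_eq_add.1 h

theorem co_inv {v : G} (hv : v ∈ V) (p : Pt k m) : co M v⁻¹ p = co M v p := by
  have h := co_mul M hv (inv_mem hv) p
  rw [mul_inv_cancel, co_one] at h
  exact (CharTwo.add_eq_zero.mp h.symm).symm

theorem eq_one_of_co {v : G} (hv : v ∈ V) (h : ∀ p, co M v p = 0) : v = 1 :=
  mem_bot.1 ((M.ker v hv).1 (funext fun i => funext fun x => h (i, x)))

theorem ext_co {v w : G} (hv : v ∈ V) (hw : w ∈ V) (h : ∀ p, co M v p = co M w p) : v = w := by
  rw [← mul_inv_eq_one]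
  refine eq_one_of_co M (mul_mem hv (inv_mem hw)) fun p => ?_
  rw [co_mul M hv (inv_mem hw), co_inv M hw, h, CharTwo.add_self_eq_zero]

theorem sum_co {v : G} (hv : v ∈ V) (i : Fin k) : ∑ x, co M v (i, x) = 0 := M.even v hv i

theorem exists_co (A : Pt k m → ZMod 2) (hA : ∀ i, ∑ x, A (i, x) = 0) : ∃ v ∈ V, ∀ p, co M v p = A p := by
  obtain ⟨v, hv, h⟩ := M.surj (fun i x => A (i, x)) hA
  exact ⟨v, hv, fun p => by unfold co; rw [h]⟩

/-- The pair `{p, q}`, `p` and `q` in one block. -/
theorem exists_pair {p q : Pt k m} (h1 : p.1 = q.1) (hne : p ≠ q) :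
    ∃ v ∈ V, ∀ r, co M v r = if r = p ∨ r = q then 1 else 0 := by
  classical
  refine exists_co M (fun r => if r = p ∨ r = q then 1 else 0) fun i => ?_
  have e : ∀ x : Fin (2 ^ m + 1), (if ((i, x) : Pt k m) = p ∨ ((i, x) : Pt k m) = q then (1 : ZMod 2) else 0) =
      (if (i, x) = p then 1 else 0) + (if (i, x) = q then 1 else 0) := by
    intro x
    by_cases ha : ((i, x) : Pt k m) = p
    · have hb : ¬ ((i, x) : Pt k m) = q := fun hb => hne (ha.symm.trans hb)
      simp [ha, hne]
    · by_cases hb : ((i, x) : Pt k m) = q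
      · simp [hb, Ne.symm hne]
      · simp [ha, hb]
  simp only [e, Finset.sum_add_distrib]
  have e2 : ∀ r : Pt k m, ∑ x, (if ((i, x) : Pt k m) = r then (1 : ZMod 2) else 0) = if i = r.1 then 1 else 0 := by
    intro r
    by_cases hi : i = r.1
    · rw [if_pos hi, Finset.sum_eq_single r.2]
      · have h9 : ((i, r.2) : Pt k m) = r := Prod.ext hi rfl
        rw [if_pos h9]
      · intro x _ hx
        rw [if_neg]
        intro h
        exact hx (congrArg Prod.snd h)
      · intro h
        exact absurd (Finset.mem_univ _) h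
    · rw [if_neg hi]
      refine Finset.sum_eq_zero fun x _ => ?_
      rw [if_neg]
      intro h
      exact hi (congrArg Prod.fst h)
  rw [e2, e2, h1, CharTwo.add_self_eq_zero]

end basic

/-! ### The permutation representation -/

theorem three_le {m : ℕ} (hm : 1 ≤ m) : 3 ≤ 2 ^ m + 1 := by
  have : 2 ^ 1 ≤ 2 ^ m := Nat.pow_le_pow_right (by norm_num) hm
  omega

/-- There is a point in the block of `p` different from `p` and from `q`. -/
theorem exists_other (hm : 1 ≤ m) (p q : Pt k m) : ∃ r : Pt k m, r.1 = p.1 ∧ r ≠ p ∧ r ≠ q := by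
  classical
  have h3 := three_le hm
  have hc : ({p.2, q.2} : Finset (Fin (2 ^ m + 1))).card < (Finset.univ : Finset (Fin (2 ^ m + 1))).card := by
    rw [Finset.card_univ, Fintype.card_fin]
    exact lt_of_le_of_lt Finset.card_le_two (by omega)
  obtain ⟨x, -, hx⟩ := Finset.exists_mem_notMem_of_card_lt_card hc
  rw [Finset.mem_insert, Finset.mem_singleton, not_or] at hx
  exact ⟨(p.1, x), rfl, fun h => hx.1 (congrArg Prod.snd h), fun h => hx.2 (congrArg Prod.snd h)⟩

section rep

variable (M : SymK T H V ⊥ k m)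

/-- The coordinates separate the points. -/
theorem point_ext (hm : 1 ≤ m) {p q : Pt k m} (h : ∀ v ∈ V, co M v p = co M v q) : p = q := by
  by_contra hne
  obtain ⟨r, hr1, hr2, hr3⟩ := exists_other hm p q
  obtain ⟨v, hv, hv'⟩ := exists_pair M hr1.symm (Ne.symm hr2)
  have h1 := h v hv
  rw [hv', hv', if_pos (Or.inl rfl), if_neg] at h1
  · exact one_ne_zero h1
  · rintro (h2 | h2)
    · exact hne h2.symm
    · exact hr3 h2.symm

theorem exists_rp {g : G} (hg : g ∈ H) : ∃ π : Equiv.Perm (Pt k m),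
    (∀ v ∈ V, ∀ p, co M (g * v * g⁻¹) (π p) = co M v p) ∧ ∃ σ : Equiv.Perm (Fin k), ∀ p, (π p).1 = σ p.1 := by
  obtain ⟨σ, τ, h⟩ := M.perm g hg
  refine ⟨Equiv.prodShear σ τ, ?_, σ, fun p => rfl⟩
  intro v hv p
  exact h v hv p.1 p.2

open Classical in
/-- The permutation of the points induced by `g`. -/
noncomputable def rp (g : G) : Equiv.Perm (Pt k m) :=
  if hg : g ∈ H then (exists_rp M hg).choose else 1

theorem co_rp {g : G} (hg : g ∈ H) {v : G} (hv : v ∈ V) (p : Pt k m) :
    co M (g * v * g⁻¹) (rp M g p) = co M v p := by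
  rw [rp, dif_pos hg]
  exact (exists_rp M hg).choose_spec.1 v hv p

theorem rp_fst {g : G} (hg : g ∈ H) : ∃ σ : Equiv.Perm (Fin k), ∀ p, (rp M g p).1 = σ p.1 := by
  rw [rp, dif_pos hg]
  exact (exists_rp M hg).choose_spec.2

/-- Points of one block are mapped to points of one block. -/
theorem rp_fst_eq {g : G} (hg : g ∈ H) {p q : Pt k m} : (rp M g p).1 = (rp M g q).1 ↔ p.1 = q.1 := by
  obtain ⟨σ, h⟩ := rp_fst M hg
  rw [h, h, σ.injective.eq_iff]

theorem rp_eq (hm : 1 ≤ m) (hHV : H ≤ normalizer (V : Set G)) {g : G} (hg : g ∈ H) {π : Equiv.Perm (Pt k m)}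
    (h : ∀ v ∈ V, ∀ p, co M (g * v * g⁻¹) (π p) = co M v p) : rp M g = π := by
  ext1 p
  refine point_ext M hm fun v hv => ?_
  have hv' : g⁻¹ * v * g ∈ V := by
    have := (mem_normalizer_iff.1 (hHV (inv_mem hg)) v).1 hv
    rwa [inv_inv] at this
  have e : g * (g⁻¹ * v * g) * g⁻¹ = v := by group
  have h1 := co_rp M hg hv' p
  have h2 := h _ hv' p
  rw [e] at h1 h2
  rw [h1, h2]

variable (hm : 1 ≤ m) (hA : Amb T H V)
include hm hA

theorem rp_mul {g g' : G} (hg : g ∈ H) (hg' : g' ∈ H) : rp M (g * g') = rp M g * rp M g' := by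
  refine rp_eq M hm hA.HV (mul_mem hg hg') fun v hv p => ?_
  have e : g * g' * v * (g * g')⁻¹ = g * (g' * v * g'⁻¹) * g⁻¹ := by group
  rw [e, Equiv.Perm.mul_apply, co_rp M hg (hA.conj_mem hg' hv), co_rp M hg' hv]

theorem rp_one : rp M 1 = 1 := by
  refine rp_eq M hm hA.HV (one_mem H) fun v hv p => ?_
  simp

theorem rp_inv {g : G} (hg : g ∈ H) : rp M g⁻¹ = (rp M g)⁻¹ := by
  have h := rp_mul M hm hA hg (inv_mem hg)
  rw [mul_inv_cancel, rp_one M hm hA] at h
  exact eq_inv_of_mul_eq_one_right h.symm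

theorem rp_pow {g : G} (hg : g ∈ H) (n : ℕ) : rp M (g ^ n) = rp M g ^ n := by
  induction n with
  | zero => rw [pow_zero, pow_zero, rp_one M hm hA]
  | succ n ih => rw [pow_succ, pow_succ, rp_mul M hm hA (pow_mem hg n) hg, ih]

/-- `rp M g = 1` iff `g` centralises `V` -/
theorem rp_eq_one_iff {g : G} (hg : g ∈ H) : rp M g = 1 ↔ ∀ v ∈ V, g * v = v * g := by
  constructor
  · intro h v hv
    have h1 : g * v * g⁻¹ = v := by
      refine ext_co M (hA.conj_mem hg hv) hv fun p => ?_
      have := co_rp M hg hv p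
      rwa [h, Equiv.Perm.one_apply] at this
    rw [mul_inv_eq_iff_eq_mul] at h1
    exact h1
  · intro h
    refine rp_eq M hm hA.HV hg fun v hv p => ?_
    rw [h v hv, mul_inv_cancel_right, Equiv.Perm.one_apply]

/-- Transpositions in a block are induced by `H`. -/
theorem exists_swap {p q : Pt k m} (h1 : p.1 = q.1) : ∃ g ∈ H, rp M g = Equiv.swap p q := by
  classical
  obtain ⟨g, hg, h, -⟩ := M.lift (Function.update 1 p.1 (Equiv.swap p.2 q.2))
  refine ⟨g, hg, rp_eq M hm hA.HV hg fun v hv r => ?_⟩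
  have h2 := h v hv r.1 r.2
  rw [Equiv.Perm.one_apply] at h2
  unfold co
  rw [← h2]
  have h3 : Equiv.swap p q r =
      (r.1, Function.update (1 : Fin k → Equiv.Perm (Fin (2 ^ m + 1))) p.1 (Equiv.swap p.2 q.2) r.1 r.2) := by
    by_cases hr : r.1 = p.1
    · rw [hr, Function.update_self]
      by_cases ha : r.2 = p.2
      · have : r = p := Prod.ext hr ha
        rw [this, Equiv.swap_apply_left, Equiv.swap_apply_left]
        exact Prod.ext h1.symm rfl
      · by_cases hb : r.2 = q.2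
        · have : r = q := Prod.ext (hr.trans h1) hb
          rw [this, Equiv.swap_apply_right, Equiv.swap_apply_right]
        · rw [Equiv.swap_apply_of_ne_of_ne ha hb, Equiv.swap_apply_of_ne_of_ne (fun h => ha (congrArg Prod.snd h))
            fun h => hb (congrArg Prod.snd h), ← hr]
    · rw [Function.update_of_ne hr, Equiv.swap_apply_of_ne_of_ne (fun h => hr (congrArg Prod.fst h))
        fun h => hr ((congrArg Prod.fst h).trans h1.symm)]
      rfl
  rw [h3]

/-- `T` fixes the points `0`. -/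
theorem rp_zero {t : G} (ht : t ∈ T) (i : Fin k) : (rp M t (i, 0)).2 = 0 := by
  obtain ⟨σ, τ, h⟩ := M.perm t (hA.TH ht)
  have h1 : rp M t = Equiv.prodShear σ τ := rp_eq M hm hA.HV (hA.TH ht) fun v hv p => h v hv p.1 p.2
  rw [h1]
  exact M.fix0 t ht σ τ h i

/-- `T` is transitive on the blocks. -/
theorem rp_trans (i j : Fin k) : ∃ t ∈ T, ∀ x, (rp M t (i, x)).1 = j := by
  obtain ⟨t, ht, σ, τ, h, hij⟩ := M.trans i j
  have h1 : rp M t = Equiv.prodShear σ τ := rp_eq M hm hA.HV (hA.TH ht) fun v hv p => h v hv p.1 p.2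
  refine ⟨t, ht, fun x => ?_⟩
  rw [h1]
  exact hij

end rep

end Cfsg.Agent.Omega.NO1.Sym
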