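import Cfsg.Agent.Omega.NO1.Sym.Rep

/-!
# Sums of even-subset modules: the Sylow 2-subgroup and the fixed points (project OMEGA, N1, `SymAll`)

`H0 M` : the elements of `H` which permute the points `(i, 0)`; `T` is transitive on the other points, so
`Ω₁(Z(T))` consists of `1` and the vector with the coordinates `1` at all points `(i, x)`, `x ≠ 0`
(`zc_co`), and `H0 M` centralises `Ω₁(Z(T))`.
-/

set_option autoImplicit false

namespace Cfsg.Agent.Omega.NO1.Sym

open Subgroup Cfsg Cfsg.Agent.ZN Cfsg.Agent.Omega.FFThm Cfsg.Agent.Omega.Half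
open Cfsg.Agent.MinSimple.VModule (mem_zc zc_le)

universe u

theorem apply_inv {α : Type*} (f : Equiv.Perm α) (x : α) : f (f⁻¹ x) = x := Equiv.apply_symm_apply f x

theorem inv_apply {α : Type*} (f : Equiv.Perm α) (x : α) : f⁻¹ (f x) = x := Equiv.symm_apply_apply f x

/-- A Sylow 2-subgroup is transitive on an orbit of 2-power length. -/
theorem exists_smul_of_sylow {L : Type*} [Group L] [Finite L] {X : Type*} [MulAction L X] {S : Subgroup L}
    (hS : ¬ 2 ∣ S.index) {x : X} {a : ℕ} (hx : (MulAction.orbit L x).ncard = 2 ^ a) {y : X}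
    (hy : y ∈ MulAction.orbit L x) : ∃ s ∈ S, s • x = y := by
  have hfin : (MulAction.orbit L x).Finite := Set.finite_range _
  set A := MulAction.stabilizer L x with hA
  have e1 : (S ⊓ A).relIndex S * S.index = (S ⊓ A).index := relIndex_mul_index inf_le_left
  have e2 : (S ⊓ A).relIndex A * A.index = (S ⊓ A).index := relIndex_mul_index inf_le_right
  have e3 : A.index = 2 ^ a := by
    rw [← hx, hA, MulAction.index_stabilizer]
  have e4 : (S ⊓ A).relIndex S = (MulAction.orbit S x).ncard := by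
    rw [inf_relIndex_left, ← MulAction.index_stabilizer (G := S) (x := x), relIndex]
    rfl
  have hdvd : 2 ^ a ∣ (S ⊓ A).relIndex S := by
    have h3 : 2 ^ a ∣ (S ⊓ A).relIndex S * S.index := by
      rw [e1, ← e2, e3]
      exact dvd_mul_left _ _
    have h4 : (2 ^ a).Coprime S.index :=
      Nat.Coprime.pow_left a ((Nat.Prime.coprime_iff_not_dvd Nat.prime_two).mpr hS)
    exact h4.dvd_of_dvd_mul_right h3
  have hsub : MulAction.orbit S x ⊆ MulAction.orbit L x := by
    rintro _ ⟨s, rfl⟩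
    exact ⟨s, rfl⟩
  have hle : (MulAction.orbit L x).ncard ≤ (MulAction.orbit S x).ncard := by
    rw [hx, ← e4]
    refine Nat.le_of_dvd (Nat.pos_of_ne_zero ?_) hdvd
    exact FiniteIndex.index_ne_zero
  have heq := Set.eq_of_subset_of_ncard_le hsub hle hfin
  rw [← heq] at hy
  obtain ⟨s, rfl⟩ := hy
  exact ⟨s, s.2, rfl⟩

variable {G : Type u} [Group G] {T H V : Subgroup G} {k m : ℕ}

section defs

variable (M : SymK T H V ⊥ k m) (hm : 1 ≤ m) (hA : Amb T H V)

/-- The elements of `H` permuting the points `(i, 0)`. -/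
def H0 : Subgroup G where
  carrier := {g | g ∈ H ∧ ∀ p, (rp M g p).2 = 0 ↔ p.2 = 0}
  mul_mem' := by
    rintro g g' ⟨hg, h1⟩ ⟨hg', h2⟩
    refine ⟨mul_mem hg hg', fun p => ?_⟩
    rw [rp_mul M hm hA hg hg', Equiv.Perm.mul_apply, h1, h2]
  one_mem' := ⟨one_mem H, fun p => by rw [rp_one M hm hA, Equiv.Perm.one_apply]⟩
  inv_mem' := by
    rintro g ⟨hg, h1⟩
    refine ⟨inv_mem hg, fun p => ?_⟩
    rw [rp_inv M hm hA hg, ← h1, apply_inv]

theorem H0_le : H0 M hm hA ≤ H := fun _ h => h.1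

include hm hA

theorem T_le_H0 : T ≤ H0 M hm hA := by
  intro t ht
  refine ⟨hA.TH ht, fun p => ⟨fun h => ?_, fun h => ?_⟩⟩
  · have h1 : p = (rp M t⁻¹) (rp M t p) := by
      rw [rp_inv M hm hA (hA.TH ht), inv_apply]
    have h2 : rp M t p = ((rp M t p).1, 0) := Prod.ext rfl h
    rw [h1, h2]
    exact rp_zero M hm hA (inv_mem ht) _
  · have h2 : p = (p.1, 0) := Prod.ext rfl h
    rw [h2]
    exact rp_zero M hm hA ht _

theorem exists_swap0 {p q : Pt k m} (h1 : p.1 = q.1) (hp : p.2 ≠ 0) (hq : q.2 ≠ 0) :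
    ∃ g ∈ H0 M hm hA, rp M g = Equiv.swap p q := by
  obtain ⟨g, hg, h⟩ := exists_swap M hm hA h1
  refine ⟨g, ⟨hg, fun r => ?_⟩, h⟩
  rw [h]
  by_cases h2 : r = p
  · rw [h2, Equiv.swap_apply_left]
    exact iff_of_false hq hp
  · by_cases h3 : r = q
    · rw [h3, Equiv.swap_apply_right]
      exact iff_of_false hp hq
    · rw [Equiv.swap_apply_of_ne_of_ne h2 h3]

end defs

section trans

variable (M : SymK T H V ⊥ k m) (hm : 1 ≤ m) (hA : Amb T H V)

/-- The action of a subgroup of `H` on the points. -/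
noncomputable def toPerm {K : Subgroup G} (hK : K ≤ H) : K →* Equiv.Perm (Pt k m) :=
  MonoidHom.mk' (fun g => rp M (g : G)) fun g g' => rp_mul M hm hA (hK g.2) (hK g'.2)

include M hm hA

theorem card_block [Finite G] (hT : IsPGroup 2 T) (i : Fin k) : ∃ a, k = 2 ^ a := by
  classical
  have : Fact (Nat.Prime 2) := ⟨Nat.prime_two⟩
  let act : MulAction T (Pt k m) := MulAction.compHom _ (toPerm M hm hA hA.TH)
  have hact : ∀ (t : T) (p : Pt k m), t • p = rp M (t : G) p := fun t p => rfl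
  obtain ⟨a, ha⟩ := hT.card_orbit (i, (0 : Fin (2 ^ m + 1)))
  refine ⟨a, ?_⟩
  rw [← ha]
  have h1 : MulAction.orbit T ((i, 0) : Pt k m) = Set.range fun j : Fin k => ((j, 0) : Pt k m) := by
    ext p
    constructor
    · rintro ⟨t, rfl⟩
      refine ⟨(rp M (t : G) (i, 0)).1, ?_⟩
      exact Prod.ext rfl (rp_zero M hm hA t.2 i).symm
    · rintro ⟨j, rfl⟩
      obtain ⟨t, ht, h⟩ := rp_trans M hm hA i j
      exact ⟨⟨t, ht⟩, Prod.ext (h 0) (rp_zero M hm hA ht i)⟩
  rw [h1, Nat.card_congr (Equiv.ofInjective _ fun a b h => congrArg Prod.fst h).symm, Nat.card_fin]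

/-- `T` is transitive on the points `(i, x)`, `x ≠ 0`. -/
theorem exists_T [Finite G] (hT : IsPGroup 2 T) (hTH : ¬ 2 ∣ T.relIndex H) {p q : Pt k m} (hp : p.2 ≠ 0)
    (hq : q.2 ≠ 0) : ∃ t ∈ T, rp M t p = q := by
  classical
  set K := H0 M hm hA with hK
  have hTK : T ≤ K := T_le_H0 M hm hA
  let act : MulAction K (Pt k m) := MulAction.compHom _ (toPerm M hm hA (H0_le M hm hA))
  have hact : ∀ (t : K) (r : Pt k m), t • r = rp M (t : G) r := fun t r => rfl
  have horb : MulAction.orbit K p = {r | r.2 ≠ 0} := by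
    ext r
    constructor
    · rintro ⟨t, rfl⟩
      intro h0
      exact hp ((t.2.2 p).1 h0)
    · intro hr
      obtain ⟨t, ht, h⟩ := rp_trans M hm hA p.1 r.1
      have h1 : (rp M t p).1 = r.1 := h p.2
      have h2 : (rp M t p).2 ≠ 0 := fun h0 => hp (((hTK ht).2 p).1 h0)
      obtain ⟨g, hg, h3⟩ := exists_swap0 M hm hA h1 h2 hr
      refine ⟨⟨g * t, mul_mem hg (hTK ht)⟩, ?_⟩
      change rp M (g * t) p = r
      rw [rp_mul M hm hA hg.1 (hA.TH ht), Equiv.Perm.mul_apply, h3, Equiv.swap_apply_left]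
  obtain ⟨a, ha⟩ := card_block M hm hA hT p.1
  have hcard : (MulAction.orbit K p).ncard = 2 ^ (a + m) := by
    rw [horb]
    have e1 : {r : Pt k m | r.2 ≠ 0} = ((Finset.univ : Finset (Fin k)) ×ˢ ({0}ᶜ : Finset (Fin (2 ^ m + 1))) :
        Finset (Pt k m)) := by
      ext r
      simp
    rw [e1, Set.ncard_coe_finset, Finset.card_product, Finset.card_univ, Fintype.card_fin, Finset.card_compl,
      Finset.card_singleton, Fintype.card_fin, pow_add, ← ha]
    rfl
  have hidx : ¬ 2 ∣ (T.subgroupOf K).index := by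
    intro h
    apply hTH
    have h1 : T.relIndex K * K.relIndex H = T.relIndex H := relIndex_mul_relIndex _ _ _ hTK (H0_le M hm hA)
    rw [← h1]
    exact dvd_mul_of_dvd_left h _
  obtain ⟨s, hs, h⟩ := exists_smul_of_sylow hidx hcard (y := q) (by rw [horb]; exact hq)
  exact ⟨s, hs, h⟩

/-- `Ω₁(Z(T))` : the coordinates are constant at the points `(i, x)`, `x ≠ 0`, and zero at the points `(i, 0)`. -/
theorem zc_co [Finite G] (hT : IsPGroup 2 T) (hTH : ¬ 2 ∣ T.relIndex H) {w : G} (hw : w ∈ zc T) :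
    (∀ p q : Pt k m, p.2 ≠ 0 → q.2 ≠ 0 → co M w p = co M w q) ∧ ∀ p : Pt k m, p.2 = 0 → co M w p = 0 := by
  classical
  have hwV : w ∈ V := hA.zc hw
  have h1 : ∀ p q : Pt k m, p.2 ≠ 0 → q.2 ≠ 0 → co M w p = co M w q := by
    intro p q hp hq
    obtain ⟨t, ht, h⟩ := exists_T M hm hA hT hTH hp hq
    have h2 := co_rp M (hA.TH ht) hwV p
    have h3 : t * w * t⁻¹ = w := by
      have := (mem_zc.1 hw).2.1 t ht
      rw [this, mul_inv_cancel_right]
    rw [h3, h] at h2
    exact h2.symm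
  refine ⟨h1, fun p hp => ?_⟩
  have h3 := three_le hm
  have h4 := sum_co M hwV p.1
  rw [← Finset.add_sum_erase _ _ (Finset.mem_univ (0 : Fin (2 ^ m + 1)))] at h4
  have h5 : ∑ x ∈ Finset.univ.erase (0 : Fin (2 ^ m + 1)), co M w (p.1, x) = 0 := by
    have hl : ((p.1, Fin.last (2 ^ m)) : Pt k m).2 ≠ 0 := by
      intro h0
      have := congrArg Fin.val h0
      rw [Fin.val_zero] at this
      have h6 : (Fin.last (2 ^ m) : Fin (2 ^ m + 1)).val = 2 ^ m := Fin.val_last _
      have h7 : (Fin.last (2 ^ m) : Fin (2 ^ m + 1)).val = 0 := this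
      omega
    rw [Finset.sum_congr rfl fun x hx => h1 (p.1, x) (p.1, Fin.last (2 ^ m)) (Finset.ne_of_mem_erase hx) hl,
      Finset.sum_const, Finset.card_erase_of_mem (Finset.mem_univ _), Finset.card_univ, Fintype.card_fin]
    generalize co M w (p.1, Fin.last (2 ^ m)) = c
    have h8 : 2 ^ m + 1 - 1 = 2 * 2 ^ (m - 1) := by
      rw [Nat.add_sub_cancel, ← pow_succ']
      congr 1
      omega
    rw [h8, mul_nsmul, two_nsmul, CharTwo.add_self_eq_zero, nsmul_zero]
  rw [h5, add_zero] at h4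
  have h6 : p = (p.1, 0) := Prod.ext rfl hp
  rw [h6]
  exact h4

/-- `H0` centralises `Ω₁(Z(T))`. -/
theorem H0_comm [Finite G] (hT : IsPGroup 2 T) (hTH : ¬ 2 ∣ T.relIndex H) {w g : G} (hw : w ∈ zc T)
    (hg : g ∈ H0 M hm hA) : g * w = w * g := by
  obtain ⟨h1, h2⟩ := zc_co M hm hA hT hTH hw
  have hwV : w ∈ V := hA.zc hw
  have h3 : g * w * g⁻¹ = w := by
    refine ext_co M (hA.conj_mem hg.1 hwV) hwV fun p => ?_
    obtain ⟨r, rfl⟩ := (rp M g).surjective p
    rw [co_rp M hg.1 hwV]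
    by_cases hr : r.2 = 0
    · rw [h2 r hr, h2 _ ((hg.2 r).2 hr)]
    · exact h1 _ _ hr fun h => hr ((hg.2 r).1 h)
  exact mul_inv_eq_iff_eq_mul.1 h3

end trans

end Cfsg.Agent.Omega.NO1.Sym
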